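import Cfsg.Agent.Lib.Linear.PrimeClasses.SympReal
import Cfsg.Agent.Lib.Linear.PrimeClasses.Roots
import Cfsg.Agent.S5961

/-!
# A simple eigenvalue obstructs commuting with a skew square root of a non-square
-/

set_option autoImplicit false

universe u

namespace Cfsg.Lib.Linear.SkewField

open Module Polynomial Cfsg.Lib.Linear Cfsg.Agent.Lib.Linear.PrimeClasses Cfsg.Agent.S5961
open scoped Matrix

variable {F : Type u} [Field F] [Fintype F] {L : Type u} [Field L] [Algebra F L] [IsAlgClosed L] {r : ℕ}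
  [Fact r.Prime] {ζ : L}

theorem no_skew_root (p : ℕ) [Fact p.Prime] [CharP F p] (h2 : (2 : F) ≠ 0) (hζ : IsPrimitiveRoot ζ r) (hrL : (r : L) ≠ 0)
    (hr2 : r ≠ 2) {i : ℕ} (hi : i = orderOf (Fintype.card F : ZMod r)) (hicase : Odd i ∨ i % 4 = 0) {d : ℕ}
    (X : Matrix.symplecticGroup (Fin d) F) (hX : X ^ r = 1) {m : ZMod r → ℕ}
    (hm : (X : Matrix (Fin d ⊕ Fin d) (Fin d ⊕ Fin d) F).charpoly.map (algebraMap F L) = Pm ζ m) {j : ZMod r}
    (hj1 : m j = 1) (Θ : Matrix (Fin d ⊕ Fin d) (Fin d ⊕ Fin d) F) {ν : F} (hν : ∀ t : F, t * t ≠ ν)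
    (hsq : Θ * Θ = ν • 1) (hskew : Θᵀ * Matrix.J (Fin d) F = -(Matrix.J (Fin d) F * Θ))
    (hcomm : (X : Matrix (Fin d ⊕ Fin d) (Fin d ⊕ Fin d) F) * Θ = Θ * X) : False := by
  classical
  set q := Fintype.card F with hq
  haveI : CharP L p := charP_of_injective_algebraMap (algebraMap F L).injective p
  obtain ⟨f, hpp, hf⟩ := FiniteField.card F p
  set φ := algebraMap F L
  let fr : L →+* L := iterateFrobenius L p f
  have hfr : ∀ x : L, fr x = x ^ q := fun x => by rw [hq, hf]; exact iterateFrobenius_def p f x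
  have hfix : ∀ a : F, fr (φ a) = φ a := fun a => by rw [hfr, ← map_pow, hq, FiniteField.pow_card]
  let M := Fin d ⊕ Fin d
  set Xm : Matrix M M L := (X : Matrix M M F).map φ with hXm
  set Θm : Matrix M M L := Θ.map φ with hΘm
  have hXr : Xm ^ r = 1 := by
    rw [hXm, ← RingHom.mapMatrix_apply, ← map_pow, ← SubmonoidClass.coe_pow, hX]
    exact map_one _
  have hcm : Xm * Θm = Θm * Xm := by rw [hXm, hΘm, ← Matrix.map_mul, hcomm, Matrix.map_mul]
  have hΘ2 : ∀ v, Θm *ᵥ (Θm *ᵥ v) = φ ν • v := fun v => by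
    rw [Matrix.mulVec_mulVec, hΘm, ← Matrix.map_mul, hsq, Matrix.map_smul' φ _ _ (map_mul φ),
      Matrix.map_one _ (map_zero φ) (map_one φ), Matrix.smul_mulVec, Matrix.one_mulVec]
  set T : End L (M → L) := Matrix.toLin' Xm
  have hT : ∀ v, T v = Xm *ᵥ v := fun v => Matrix.toLin'_apply _ _
  have hdim : finrank L (T.maxGenEigenspace (zp ζ j)) = 1 := by
    rw [LinearMap.finrank_maxGenEigenspace_eq, Matrix.charpoly_toLin', hXm, Matrix.charpoly_map, hm, count_roots_Pm hζ, hj1]
  obtain ⟨w, hw, hw0⟩ : ∃ w, Xm *ᵥ w = zp ζ j • w ∧ w ≠ 0 := by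
    have hev : T.HasEigenvalue (zp ζ j) := (Module.End.hasEigenvalue_iff_isRoot_charpoly _ _).2 (by
      rw [Matrix.charpoly_toLin', hXm, Matrix.charpoly_map, hm, ← rootMultiplicity_pos (Monic.ne_zero (hm ▸
        (Matrix.charpoly_monic _).map φ)), count_roots_Pm hζ, hj1]
      exact one_pos)
    obtain ⟨w, hw⟩ := hev.exists_hasEigenvector
    exact ⟨w, by rw [← hT]; exact Module.End.mem_eigenspace_iff.1 hw.1, hw.2⟩
  have hgen : ∀ v, (∃ n : ℕ, ((T - zp ζ j • 1) ^ n) v = 0) → ∃ c : L, v = c • w := fun v hv => by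
    have h1 : w ∈ T.maxGenEigenspace (zp ζ j) := Module.End.mem_maxGenEigenspace _ _ _ |>.2 ⟨1, by
      rw [pow_one, LinearMap.sub_apply, LinearMap.smul_apply, End.one_apply, hT, hw, sub_self]⟩
    have h2 : v ∈ T.maxGenEigenspace (zp ζ j) := (Module.End.mem_maxGenEigenspace _ _ _).2 hv
    obtain ⟨c, hc⟩ := (finrank_eq_one_iff_of_nonzero' (⟨w, h1⟩ : T.maxGenEigenspace (zp ζ j))
      (fun h => hw0 (congrArg Subtype.val h))).1 hdim ⟨v, h2⟩
    exact ⟨c, (congrArg Subtype.val hc).symm⟩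
  have heig : ∀ v, Xm *ᵥ v = zp ζ j • v → ∃ c : L, v = c • w := fun v hv => hgen v ⟨1, by
    rw [pow_one, LinearMap.sub_apply, LinearMap.smul_apply, End.one_apply, hT, hv, sub_self]⟩
  obtain ⟨s, hs⟩ := heig (Θm *ᵥ w) (by rw [Matrix.mulVec_mulVec, hcm, ← Matrix.mulVec_mulVec, hw, Matrix.mulVec_smul])
  have hs2 : s * s = φ ν := by
    have h := hΘ2 w
    rw [hs, Matrix.mulVec_smul, hs, smul_smul] at h
    exact smul_left_injective L hw0 h
  have hν0 : ν ≠ 0 := fun h => hν 0 (by rw [h, mul_zero])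
  have hs0 : s ≠ 0 := fun h => hν0 ((map_eq_zero φ).1 (by rw [← hs2, h, mul_zero]))
  have h2L : (2 : L) ≠ 0 := by rw [← map_ofNat φ 2]; exact (map_ne_zero φ).2 h2
  have hsq' : fr s = -s := by
    have hcs : ringChar F ≠ 2 := fun h => h2 (by
      haveI := ringChar.charP F
      exact_mod_cast (CharP.cast_eq_zero_iff F (ringChar F) 2).2 (by rw [h]))
    have hodd := FiniteField.odd_card_of_char_ne_two hcs
    have hns : ν ^ (q / 2) = -1 := by
      refine (FiniteField.pow_dichotomy hcs hν0).resolve_left fun h => ?_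
      obtain ⟨t, ht⟩ := (FiniteField.isSquare_iff hcs hν0).2 h
      exact hν t ht.symm
    rw [hfr, show q = 2 * (q / 2) + 1 by omega, pow_succ, pow_mul, pow_two, hs2, ← map_pow, hns, map_neg, map_one,
      neg_one_mul]
  -- Frobenius twists
  let fv : (M → L) → (M → L) := fun v t => fr (v t)
  have hfv : ∀ (A : Matrix M M F) v, fv (A.map φ *ᵥ v) = A.map φ *ᵥ fv v := fun A v => funext fun t => by
    simp [fv, Matrix.mulVec, dotProduct, map_sum, map_mul, hfix]
  have hfs : ∀ (c : L) v, fv (c • v) = fr c • fv v := fun c v => funext fun t => by simp [fv]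
  have hiter : ∀ k : ℕ, Xm *ᵥ (fv^[k] w) = zp ζ (((q : ℕ) : ZMod r) ^ k * j) • fv^[k] w ∧
      Θm *ᵥ (fv^[k] w) = ((-1) ^ k * s) • fv^[k] w ∧ fv^[k] w ≠ 0 := by
    intro k
    induction k with
    | zero => simp [hw, hs, hw0]
    | succ k ih =>
      obtain ⟨h1, h3, h4⟩ := ih
      rw [Function.iterate_succ_apply']
      refine ⟨?_, ?_, fun h => h4 (funext fun t => (map_eq_zero fr).1 (congrFun h t))⟩
      · rw [hXm, ← hfv, ← hXm, h1, hfs, hfr, zp_pow hζ, pow_succ', mul_assoc]
      · rw [hΘm, ← hfv, ← hΘm, h3, hfs, map_mul, map_pow, map_neg, map_one, hsq']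
        congr 1
        ring
  have hqne : (q : ZMod r) ≠ 0 := fun h => by
    have hd' : r ∣ q := (ZMod.natCast_eq_zero_iff _ _).1 h
    rw [hq, hf] at hd'
    have := (Nat.prime_dvd_prime_iff_eq Fact.out hpp).1 ((Fact.out : r.Prime).dvd_of_dvd_pow hd')
    subst this
    exact hrL (by rw [CharP.cast_eq_zero])
  have hi0 : 0 < i := hi ▸ orderOf_pos_iff.2 (isOfFinOrder_iff_pow_eq_one.2
    ⟨r - 1, by have := (Fact.out : r.Prime).two_le; omega, ZMod.pow_card_sub_one_eq_one hqne⟩)
  have hqi : (q : ZMod r) ^ i = 1 := by rw [hi]; exact pow_orderOf_eq_one _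
  rcases hicase with hodd | h4
  · obtain ⟨h1, h3, hne⟩ := hiter i
    rw [hqi, one_mul] at h1
    obtain ⟨c, hc⟩ := heig _ h1
    rw [hodd.neg_one_pow, hc, Matrix.mulVec_smul, hs, smul_smul, smul_smul] at h3
    have h5 := smul_left_injective L hw0 h3
    have hc0 : c ≠ 0 := fun h => hne (by rw [hc, h, zero_smul])
    exact mul_ne_zero h2L (mul_ne_zero hc0 hs0) (by linear_combination h5)
  · obtain ⟨e, he⟩ : ∃ e, i = 4 * e := ⟨i / 4, by omega⟩
    subst he
    have hneg : (q : ZMod r) ^ (2 * e) = -1 := by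
      have h : ((q : ZMod r) ^ (2 * e)) * ((q : ZMod r) ^ (2 * e)) = 1 := by
        rw [← pow_add, ← two_mul, ← mul_assoc]; exact hqi
      refine (mul_self_eq_one_iff.1 h).resolve_left fun h1 => ?_
      have := Nat.le_of_dvd (by omega) (hi ▸ orderOf_dvd_of_pow_eq_one h1)
      omega
    obtain ⟨h1, h3, hne⟩ := hiter (2 * e)
    rw [hneg, neg_one_mul] at h1
    rw [(even_two_mul e).neg_one_pow, one_mul] at h3
    set w' := fv^[2 * e] w
    -- pairing
    set B := Symp.spB d L
    have hJ : (Matrix.J (Fin d) F).map φ = Matrix.J (Fin d) L := by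
      simp [Matrix.J, Matrix.fromBlocks_map, Matrix.map_one, Matrix.map_neg]
    have hBX : ∀ u v, B (Xm *ᵥ u) (Xm *ᵥ v) = B u v := fun u v => by
      refine (Symp.mem_symplecticGroup_iff _).1 (SymplecticGroup.mem_iff'.2 ?_) u v
      rw [hXm, ← hJ, ← Matrix.transpose_map, ← Matrix.map_mul, ← Matrix.map_mul, SymplecticGroup.mem_iff'.1 X.2]
    have hBΘ : ∀ u v, B (Θm *ᵥ u) v = -B u (Θm *ᵥ v) := fun u v => by
      rw [Symp.spB_apply, Symp.spB_apply, Cfsg.sympForm, Cfsg.sympForm, ← Matrix.vecMul_transpose, hΘm,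
        ← Matrix.dotProduct_mulVec, Matrix.mulVec_mulVec, Matrix.mulVec_mulVec, ← hJ, ← Matrix.transpose_map,
        ← Matrix.map_mul, ← Matrix.map_mul, hskew]
      rw [Matrix.map_neg _ (map_neg φ), Matrix.neg_mulVec, dotProduct_neg]
    -- the other eigenvalue is simple as well
    have hww : B w w' = 0 := by
      have h := hBΘ w w'
      rw [hs, h3, map_smul, LinearMap.smul_apply, map_smul, smul_eq_mul] at h
      exact (mul_eq_zero.1 (show (2 * s) * B w w' = 0 by linear_combination h)).resolve_left (mul_ne_zero h2L hs0)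
    set S := Matrix.toLin' Xm - zp ζ (-j) • (1 : End L (M → L))
    have horth : ∀ v, B w (S v) = 0 := fun v => by
      have hprod : zp ζ j * zp ζ (-j) = 1 := by rw [← zp_add hζ, add_neg_cancel, zp_zero]
      have h6 := hBX w v
      rw [hw, map_smul, LinearMap.smul_apply, smul_eq_mul] at h6
      simp only [S, LinearMap.sub_apply, LinearMap.smul_apply, End.one_apply, Matrix.toLin'_apply, map_sub, map_smul,
        smul_eq_mul]
      linear_combination zp ζ (-j) * h6 - B w (Xm *ᵥ v) * hprod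
    have hker : finrank L (LinearMap.ker S) ≤ 1 := by
      have hX' : m (-j) = 1 := by
        obtain ⟨wu, hwu, -, -, -⟩ := exists_gen hr2 (Units.mk0 _ hqne)
        obtain ⟨m', hm', hinv, -⟩ := exists_mult_sp (L := L) hζ hrL
          (fun h => hrL (by rw [← map_natCast φ, h, map_zero])) (uq := Units.mk0 _ hqne) rfl wu hwu X hX
        have hmm : ∀ x, m' x = m x := fun x => by rw [← count_roots_Pm hζ m' x, ← hm', hm, count_roots_Pm hζ]
        obtain ⟨k, hk⟩ : ∃ k : ℕ, (-j : ZMod r) = (wu : ZMod r) ^ k * j := by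
          rcases hwu with h | h
          · exact ⟨2 * e, by rw [h, Units.val_mk0, hneg, neg_one_mul]⟩
          · exact ⟨2 * e, by rw [h, Units.val_mk0, (even_two_mul e).neg_pow, hneg, neg_one_mul]⟩
        rw [← hmm, hk, Cfsg.Agent.Lib.Linear.PrimeClasses.inv_pow hinv, hmm, hj1]
      have hle : LinearMap.ker S ≤ T.maxGenEigenspace (zp ζ (-j)) := fun v hv =>
        (Module.End.mem_maxGenEigenspace _ _ _).2 ⟨1, by rw [pow_one]; exact hv⟩
      refine (Submodule.finrank_mono hle).trans ?_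
      rw [LinearMap.finrank_maxGenEigenspace_eq, Matrix.charpoly_toLin', hXm, Matrix.charpoly_map, hm, count_roots_Pm hζ, hX']
    have hTr : (Matrix.toLin' Xm : End L (M → L)) ^ r = 1 := by rw [← Matrix.toLin'_pow, hXr, Matrix.toLin'_one]; rfl
    have hnot : w' ∉ LinearMap.range S := by
      rintro ⟨v, hv⟩
      have hlam : zp ζ (-j) ≠ 0 := fun h => by
        have h' := zp_add hζ j (-j)
        rw [add_neg_cancel, zp_zero, h, mul_zero] at h'
        exact one_ne_zero h'
      have hlr : zp ζ (-j) ^ r = 1 := by rw [zp_pow hζ, ZMod.natCast_self, zero_mul, zp_zero]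
      -- semisimplicity
      have hSv : S (S v) = 0 := by
        rw [hv]
        simp only [S, LinearMap.sub_apply, LinearMap.smul_apply, End.one_apply, Matrix.toLin'_apply, h1, sub_self]
      set T' : End L (M → L) := (zp ζ (-j))⁻¹ • Matrix.toLin' Xm
      have hT'r : T' ^ r = 1 := by rw [_root_.smul_pow, hTr, _root_.inv_pow, hlr, inv_one, one_smul]
      have hT'S : ∀ u, (T' - 1) u = (zp ζ (-j))⁻¹ • S u := fun u => by
        simp only [T', S, LinearMap.sub_apply, LinearMap.smul_apply, End.one_apply, smul_sub, smul_smul,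
          inv_mul_cancel₀ hlam, one_smul]
      have h5 : T' v = v := fixed_of_pow (r := r) hrL hT'r 2 v (by
        rw [pow_two, End.mul_apply, hT'S, hT'S, map_smul, hSv, smul_zero, smul_zero])
      have h6 : S v = 0 := by
        have h7 := hT'S v
        rw [LinearMap.sub_apply, End.one_apply, h5, sub_self, eq_comm, smul_eq_zero] at h7
        exact h7.resolve_left (inv_ne_zero hlam)
      exact hne (by rw [← hv, h6])
    have htop : LinearMap.range S ⊔ Submodule.span L {w'} = ⊤ := by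
      refine Submodule.eq_top_of_finrank_eq (le_antisymm (Submodule.finrank_le _) ?_)
      have hlt : LinearMap.range S < LinearMap.range S ⊔ Submodule.span L {w'} := by
        refine lt_of_le_of_ne le_sup_left fun h => hnot ?_
        rw [h]
        exact Submodule.mem_sup_right (Submodule.mem_span_singleton_self _)
      have := Submodule.finrank_lt_finrank_of_lt hlt
      have := LinearMap.finrank_range_add_finrank_ker S
      omega
    refine hw0 ((Symp.spB_nondegenerate d L).1 w fun v => ?_)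
    obtain ⟨_, ⟨u, rfl⟩, _, hb, rfl⟩ := Submodule.mem_sup.1 (htop ▸ Submodule.mem_top : v ∈ LinearMap.range S ⊔ Submodule.span L {w'})
    obtain ⟨c, rfl⟩ := Submodule.mem_span_singleton.1 hb
    show B w _ = 0
    rw [map_add, horth, map_smul, hww, smul_zero, add_zero]

end Cfsg.Lib.Linear.SkewField
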