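import Cfsg.Agent.Lib.Linear.SymplecticGroup
import Cfsg.Agent.Lib.Linear.SquareScalar
import Cfsg.Agent.Lib.Linear.NondegFix.AltUnip

/-!
# Frames adapted to similitudes of symplectic spaces, and skew square roots of non-squares
-/

set_option autoImplicit false

universe u v w

namespace Cfsg.Lib.Linear.SkewField

open Module

variable {F : Type u} [Field F]

/-- A similitude of a non-degenerate alternating form. -/
structure Sim {V : Type v} [AddCommGroup V] [Module F V] (B : LinearMap.BilinForm F V) (μ : F) (g : End F V) : Prop where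
  alt : B.IsAlt
  nd : B.Nondegenerate
  mul : μ ≠ 0
  sim : ∀ x y, B (g x) (g y) = μ * B x y

/-- A normalised pair spanning an invariant plane, on which `g` has matrix in `P`. -/
def Pair {V : Type v} [AddCommGroup V] [Module F V] (B : LinearMap.BilinForm F V) (g : End F V)
    (P : F → F → F → F → Prop) (x y : V) : Prop :=
  B x y = 1 ∧ ∃ a b c e : F, P a b c e ∧ g x = a • x + b • y ∧ g y = c • x + e • y

/-- If every invariant non-degenerate subspace has a normalised pair, there is a frame of such pairs. -/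
theorem exists_frame (μ : F) (P : F → F → F → F → Prop) (Good : ∀ {V : Type v} [AddCommGroup V] [Module F V], End F V → Prop)
    (hres : ∀ {V : Type v} [AddCommGroup V] [Module F V] (g : End F V) (W : Submodule F V)
      (hi : ∀ x ∈ W, g x ∈ W), Good g → Good (g.restrict hi))
    (hpair : ∀ {V : Type v} [AddCommGroup V] [Module F V] [FiniteDimensional F V] (B : LinearMap.BilinForm F V)
      (g : End F V), Sim B μ g → Good g → 0 < finrank F V → ∃ x y, Pair B g P x y)
    (n : ℕ) : ∀ {V : Type v} [AddCommGroup V] [Module F V] [FiniteDimensional F V] (B : LinearMap.BilinForm F V)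
      (g : End F V), Sim B μ g → Good g → finrank F V = n →
      ∃ (k : ℕ) (x y : Fin k → V), n = 2 * k ∧ (∀ a, Pair B g P (x a) (y a)) ∧
        ∀ a b, a ≠ b → B (x a) (x b) = 0 ∧ B (x a) (y b) = 0 ∧ B (y a) (y b) = 0 := by
  induction n using Nat.strong_induction_on with
  | _ n ih =>
  intro V _ _ _ B g H hg hn
  rcases Nat.eq_zero_or_pos n with rfl | hpos
  · exact ⟨0, Fin.elim0, Fin.elim0, rfl, fun a => a.elim0, fun a => a.elim0⟩
  obtain ⟨x, y, hxy, a, b, c, e, hP, hgx, hgy⟩ := hpair B g H hg (hn ▸ hpos)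
  have hsk : ∀ u v, B v u = -B u v := fun u v => (LinearMap.IsAlt.neg H.alt u v).symm
  let W := Submodule.span F ({x, y} : Set V)
  have hxW : x ∈ W := Submodule.subset_span (by simp)
  have hyW : y ∈ W := Submodule.subset_span (by simp)
  have hnd : (B.restrict W).Nondegenerate := by
    have h1 : ∀ z : W, (∀ w : W, B z w = 0) → z = 0 := fun z hz => by
      obtain ⟨s, t, hst⟩ := Submodule.mem_span_pair.1 z.2
      have h0 := hz ⟨x, hxW⟩
      have h0' := hz ⟨y, hyW⟩
      simp only [← hst, map_add, map_smul, LinearMap.add_apply, LinearMap.smul_apply, H.alt.self_eq_zero, hsk x y, hxy,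
        smul_eq_mul, mul_zero, mul_one, mul_neg, zero_add, add_zero, neg_eq_zero] at h0 h0'
      exact Subtype.ext (by rw [← hst, h0, h0', zero_smul, zero_smul, add_zero]; rfl)
    exact ⟨fun z hz => h1 z fun w => hz w, fun z hz => h1 z fun w => H.alt.isRefl _ _ (hz w)⟩
  have hc := LinearMap.BilinForm.isCompl_orthogonal_of_restrict_nondegenerate H.alt.isRefl hnd
  set U := B.orthogonal W
  have hperp : ∀ u ∈ U, B x u = 0 ∧ B y u = 0 := fun u hu => ⟨hu x hxW, hu y hyW⟩
  have hinj : Function.Injective g := (injective_iff_map_eq_zero g).2 fun z hz => H.nd.1 z fun w => by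
    have h1 := H.sim z w
    rw [hz, map_zero, LinearMap.zero_apply, eq_comm, mul_eq_zero] at h1
    exact h1.resolve_left H.mul
  have hWi : ∀ z ∈ W, g z ∈ W := fun z hz => by
    obtain ⟨s, t, rfl⟩ := Submodule.mem_span_pair.1 hz
    rw [map_add, map_smul, map_smul, hgx, hgy]
    exact W.add_mem (W.smul_mem _ (W.add_mem (W.smul_mem _ hxW) (W.smul_mem _ hyW)))
      (W.smul_mem _ (W.add_mem (W.smul_mem _ hxW) (W.smul_mem _ hyW)))
  have hUi : ∀ u ∈ U, g u ∈ U := fun u hu w hw => by
    have hT : Function.Injective (g.restrict hWi) := fun p q h => Subtype.ext (hinj (congrArg Subtype.val h))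
    obtain ⟨⟨v, hv⟩, hvw⟩ := (LinearMap.injective_iff_surjective.1 hT) ⟨w, hw⟩
    show B w (g u) = 0
    rw [show w = g v from (congrArg Subtype.val hvw).symm, H.sim, show B v u = 0 from hu v hv, mul_zero]
  have hU : (B.restrict U).Nondegenerate := by
    have h1 : ∀ z : U, (∀ w : U, B z w = 0) → z = 0 := fun z hz => Subtype.ext (H.nd.1 z fun w => by
      obtain ⟨p, hp, q, hq, rfl⟩ := Submodule.mem_sup.1 (hc.sup_eq_top ▸ Submodule.mem_top : w ∈ W ⊔ U)
      rw [map_add, hz ⟨q, hq⟩, add_zero, hsk p z, show B p z = 0 from z.2 p hp, neg_zero])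
    exact ⟨fun z hz => h1 z fun w => hz w, fun z hz => h1 z fun w => H.alt.isRefl _ _ (hz w)⟩
  have hW2 : finrank F W = 2 := by
    show finrank F (Submodule.span F ({x, y} : Set V)) = 2
    rw [← Matrix.range_cons_cons_empty x y Matrix.vecEmpty]
    refine (finrank_span_eq_card (LinearIndependent.pair_iff.2 fun s t hst => ?_)).trans (Fintype.card_fin 2)
    have h1 := congrArg (fun v => B v y) hst
    have h3 := congrArg (fun v => B x v) hst
    simp [H.alt.self_eq_zero, hxy] at h1 h3
    exact ⟨h1, h3⟩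
  have hdim := Submodule.finrank_add_eq_of_isCompl hc
  obtain ⟨k, xs, ys, hk, hp, ho⟩ := ih (finrank F U) (by omega) _ _
    (⟨fun z => H.alt _, hU, H.mul, fun p q => H.sim p q⟩ : Sim (B.restrict U) μ (g.restrict hUi)) (hres g U hUi hg) rfl
  refine ⟨k + 1, Fin.cons x (fun a => (xs a : V)), Fin.cons y (fun a => (ys a : V)), by omega, fun i => ?_, fun i j hij => ?_⟩
  · refine Fin.cases ?_ (fun i => ?_) i
    · exact ⟨by simpa using hxy, a, b, c, e, hP, by simpa using hgx, by simpa using hgy⟩
    · obtain ⟨h1, a', b', c', e', hP', h2, h3⟩ := hp i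
      refine ⟨by simpa using h1, a', b', c', e', hP', ?_, ?_⟩
      · simpa using congrArg Subtype.val h2
      · simpa using congrArg Subtype.val h3
  · induction i using Fin.cases with
    | zero =>
      induction j using Fin.cases with
      | zero => exact absurd rfl hij
      | succ j => simp [hperp _ (xs j).2, hperp _ (ys j).2]
    | succ i =>
      induction j using Fin.cases with
      | zero => simp [hsk x, hsk y, hperp _ (xs i).2, hperp _ (ys i).2]
      | succ j => simpa using ho i j fun e => hij (by rw [e])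

section Basis

variable {V : Type v} [AddCommGroup V] [Module F V] [FiniteDimensional F V] {B : LinearMap.BilinForm F V} {k : ℕ}
  {x y : Fin k → V}

/-- A frame is a basis. -/
theorem frame_basis (hA : B.IsAlt) (hV : finrank F V = 2 * k) (h1 : ∀ a, B (x a) (y a) = 1)
    (h0 : ∀ a b, a ≠ b → B (x a) (x b) = 0 ∧ B (x a) (y b) = 0 ∧ B (y a) (y b) = 0) :
    ∃ β : Basis (Fin k ⊕ Fin k) F V, ∀ s, β s = Sum.elim x y s := by
  classical
  have hsk : ∀ u v, B v u = -B u v := fun u v => (LinearMap.IsAlt.neg hA u v).symm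
  have hli : LinearIndependent F (Sum.elim x y) := Fintype.linearIndependent_iff.2 fun f hf => by
    rintro (a | a)
    · have h := congrArg (fun z => B z (y a)) hf
      simp only [map_sum, LinearMap.sum_apply, map_smul, LinearMap.smul_apply, Fintype.sum_sum_type, Sum.elim_inl,
        Sum.elim_inr, map_zero, LinearMap.zero_apply, map_add, LinearMap.add_apply] at h
      rw [Finset.sum_eq_single a (fun b _ hb => by rw [(h0 b a hb).2.1, smul_zero]) (by simp),
        Finset.sum_eq_zero (fun b _ => by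
          rcases eq_or_ne b a with rfl | hb
          · rw [hA.self_eq_zero, smul_zero]
          · rw [(h0 b a hb).2.2, smul_zero]), h1, add_zero, smul_eq_mul, mul_one] at h
      exact h
    · have h := congrArg (fun z => B (x a) z) hf
      simp only [map_sum, map_smul, Fintype.sum_sum_type, Sum.elim_inl, Sum.elim_inr, map_zero, map_add] at h
      rw [Finset.sum_eq_single a (s := Finset.univ) (f := fun b => f (Sum.inr b) • B (x a) (y b))
          (fun b _ hb => by rw [(h0 a b (Ne.symm hb)).2.1, smul_zero]) (by simp),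
        Finset.sum_eq_zero (fun b _ => by
          rcases eq_or_ne a b with rfl | hb
          · rw [hA.self_eq_zero, smul_zero]
          · rw [(h0 a b hb).1, smul_zero]), h1, zero_add, smul_eq_mul, mul_one] at h
      exact h
  refine ⟨basisOfLinearIndependentOfCardEqFinrank' _ hli (by simp [hV]; omega), fun s => by simp⟩

theorem frame_gram {V' : Type w} [AddCommGroup V'] [Module F V'] {B' : LinearMap.BilinForm F V'} (hA : B.IsAlt)
    (hA' : B'.IsAlt) {x' y' : Fin k → V'} (h1 : ∀ a, B (x a) (y a) = 1)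
    (h0 : ∀ a b, a ≠ b → B (x a) (x b) = 0 ∧ B (x a) (y b) = 0 ∧ B (y a) (y b) = 0)
    (h1' : ∀ a, B' (x' a) (y' a) = 1)
    (h0' : ∀ a b, a ≠ b → B' (x' a) (x' b) = 0 ∧ B' (x' a) (y' b) = 0 ∧ B' (y' a) (y' b) = 0)
    (s t : Fin k ⊕ Fin k) : B' (Sum.elim x' y' s) (Sum.elim x' y' t) = B (Sum.elim x y s) (Sum.elim x y t) := by
  have hsk : ∀ u v, B v u = -B u v := fun u v => (LinearMap.IsAlt.neg hA u v).symm
  have hsk' : ∀ u v, B' v u = -B' u v := fun u v => (LinearMap.IsAlt.neg hA' u v).symm
  rcases s with a | a <;> rcases t with b | b <;> simp only [Sum.elim_inl, Sum.elim_inr] <;>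
    rcases eq_or_ne a b with rfl | hab
  · rw [hA'.self_eq_zero, hA.self_eq_zero]
  · rw [(h0' a b hab).1, (h0 a b hab).1]
  · rw [h1', h1]
  · rw [(h0' a b hab).2.1, (h0 a b hab).2.1]
  · rw [hsk' (x' _), hsk (x _), h1', h1]
  · rw [hsk' (x' b), hsk (x b), (h0' b a hab.symm).2.1, (h0 b a hab.symm).2.1]
  · rw [hA'.self_eq_zero, hA.self_eq_zero]
  · rw [(h0' a b hab).2.2, (h0 a b hab).2.2]

end Basis

/-- A skew square root of `ν`. -/
structure Root {V : Type v} [AddCommGroup V] [Module F V] (B : LinearMap.BilinForm F V) (ν : F) (J : End F V) : Prop where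
  sq : ∀ v, J (J v) = ν • v
  skew : ∀ u v, B (J u) v = -B u (J v)

theorem Root.sim {V : Type v} [AddCommGroup V] [Module F V] {B : LinearMap.BilinForm F V} {ν : F} {J : End F V}
    (R : Root B ν J) (hA : B.IsAlt) (hB : B.Nondegenerate) (hν : ν ≠ 0) : Sim B (-ν) J :=
  ⟨hA, hB, neg_ne_zero.2 hν, fun x y => by rw [R.skew, R.sq, map_smul, smul_eq_mul]; ring⟩

/-- A frame adapted to a skew root. -/
theorem exists_root_frame [Finite F] (h2 : (2 : F) ≠ 0) {ν : F} (hν : ∀ t : F, t * t ≠ ν) {V : Type v} [AddCommGroup V]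
    [Module F V] [FiniteDimensional F V] (B : LinearMap.BilinForm F V) (J : End F V) (hA : B.IsAlt) (hB : B.Nondegenerate)
    (R : Root B ν J) {k : ℕ} (hV : finrank F V = 2 * k) :
    ∃ β : Basis (Fin k ⊕ Fin k) F V, (∀ a, B (β (.inl a)) (β (.inr a)) = 1 ∧ J (β (.inl a)) = β (.inr a) ∧
      J (β (.inr a)) = ν • β (.inl a)) ∧ ∀ a b, a ≠ b → B (β (.inl a)) (β (.inl b)) = 0 ∧
        B (β (.inl a)) (β (.inr b)) = 0 ∧ B (β (.inr a)) (β (.inr b)) = 0 := by
  have hν0 : ν ≠ 0 := fun h => hν 0 (by rw [h, mul_zero])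
  obtain ⟨k', x, y, hk, hp, ho⟩ := exists_frame (-ν) (fun a b c e => a = 0 ∧ b = 1 ∧ c = ν ∧ e = 0)
    (fun {V} _ _ g => ∀ v, g (g v) = ν • v) (fun g W hi h v => Subtype.ext (by simpa using h v)) (by
      intro V _ _ _ B g H hg hpos
      have hskew : ∀ u v, B (g u) v = -B u (g v) := fun u v => by
        have h1 := H.sim u (g v)
        rw [hg, map_smul, smul_eq_mul] at h1
        exact mul_left_cancel₀ hν0 (by linear_combination h1)
      have : Nontrivial V := Module.nontrivial_of_finrank_pos (R := F) hpos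
      obtain ⟨a, ha⟩ := exists_ne (0 : V)
      obtain ⟨b, hb⟩ : ∃ b, B a b ≠ 0 := by
        by_contra h
        push Not at h
        exact ha (H.nd.1 a h)
      have hsk : ∀ u v, B v u = -B u v := fun u v => (LinearMap.IsAlt.neg H.alt u v).symm
      have hs : ∀ u v, B u (g v) = B v (g u) := fun u v => by rw [hsk (g u) v, hskew, neg_neg]
      obtain ⟨u, hu⟩ := AltFix.exists_aniso h2 (fun u v => B u (g v)) (fun u v => by
        simp only [map_add, LinearMap.add_apply]; ring) hs (a := a) (b := ν⁻¹ • g b) (by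
        rw [map_smul, hg, smul_smul, inv_mul_cancel₀ hν0, one_smul]; exact hb)
      obtain ⟨α, β, hαβ⟩ := SquareScalar.exists_quad hν0 (B u (g u))⁻¹
      set w := α • u + β • g u
      have hgw : g w = α • g u + (β * ν) • u := by
        simp only [w, map_add, map_smul, hg, smul_smul]
      refine ⟨w, g w, ?_, 0, 1, ν, 0, ⟨rfl, rfl, rfl, rfl⟩, by simp, by simp [hg]⟩
      rw [hgw]
      simp only [w, map_add, map_smul, LinearMap.add_apply, LinearMap.smul_apply, smul_eq_mul, H.alt.self_eq_zero,
        hsk u (g u)]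
      calc _ = (α * α - ν * (β * β)) * B u (g u) := by ring
        _ = 1 := by rw [hαβ, inv_mul_cancel₀ hu])
    _ B J (R.sim hA hB hν0) R.sq hV
  obtain rfl : k' = k := by omega
  obtain ⟨β, hβ⟩ := frame_basis hA hV (fun a => (hp a).1) ho
  refine ⟨β, fun a => ?_, fun a b hab => by simpa [hβ] using ho a b hab⟩
  obtain ⟨h1, a', b', c', e', ⟨rfl, rfl, rfl, rfl⟩, h3, h4⟩ := hp a
  exact ⟨by simpa [hβ] using h1, by simpa [hβ] using h3, by simpa [hβ] using h4⟩

/-- Skew roots are conjugate. -/
theorem root_conj [Finite F] (h2 : (2 : F) ≠ 0) {ν : F} (hν : ∀ t : F, t * t ≠ ν) {V : Type v} [AddCommGroup V]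
    [Module F V] [FiniteDimensional F V] {V' : Type w} [AddCommGroup V'] [Module F V'] [FiniteDimensional F V']
    (B : LinearMap.BilinForm F V) (J : End F V) (hA : B.IsAlt) (hB : B.Nondegenerate) (R : Root B ν J)
    (B' : LinearMap.BilinForm F V') (J' : End F V') (hA' : B'.IsAlt) (hB' : B'.Nondegenerate) (R' : Root B' ν J')
    {k : ℕ} (hV : finrank F V = 2 * k) (hV' : finrank F V' = 2 * k) :
    ∃ G : V ≃ₗ[F] V', (∀ u v, B' (G u) (G v) = B u v) ∧ ∀ v, G (J v) = J' (G v) := by
  obtain ⟨β, h1, h0⟩ := exists_root_frame h2 hν B J hA hB R hV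
  obtain ⟨β', h1', h0'⟩ := exists_root_frame h2 hν B' J' hA' hB' R' hV'
  let G := β.equiv β' (Equiv.refl _)
  have hG : ∀ s, G (β s) = β' s := fun s => by simp [G]
  refine ⟨G, fun u v => ?_, fun v => ?_⟩
  · refine LinearMap.congr_fun₂ (f := B'.compl₁₂ (G : V →ₗ[F] V') (G : V →ₗ[F] V')) (g := B)
      (LinearMap.ext_basis β β fun s t => ?_) u v
    have h := frame_gram (B := B) (B' := B') (x := fun a => β (.inl a)) (y := fun a => β (.inr a))
      (x' := fun a => β' (.inl a)) (y' := fun a => β' (.inr a)) hA hA' (fun a => (h1 a).1) h0 (fun a => (h1' a).1) h0' s t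
    rw [LinearMap.compl₁₂_apply, LinearEquiv.coe_coe, hG, hG]
    rcases s with s | s <;> rcases t with t | t <;> simpa using h
  · refine LinearMap.congr_fun (f := (G : V →ₗ[F] V') ∘ₗ J) (g := J' ∘ₗ (G : V →ₗ[F] V')) (β.ext ?_) v
    rintro (a | a) <;> simp [(h1 a).2.1, (h1 a).2.2, hG, (h1' a).2.1, (h1' a).2.2, map_smul]

/-- The blocks of an isometry squaring to `±1`. -/
def InvolBlock (z a b c e : F) : Prop :=
  (z = 1 ∧ b = 0 ∧ c = 0 ∧ e = a) ∨ (z = -1 ∧ a = 0 ∧ e = 0 ∧ b ≠ 0 ∧ c = -b⁻¹)

/-- An isometry squaring to `±1` has a frame of invariant pairs. -/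
theorem exists_invol_frame [Finite F] (h2 : (2 : F) ≠ 0) {V : Type v} [AddCommGroup V]
    [Module F V] [FiniteDimensional F V] (B : LinearMap.BilinForm F V) (X : End F V) (hA : B.IsAlt) (hB : B.Nondegenerate)
    (hX : ∀ u v, B (X u) (X v) = B u v) {z : F} (hz : z = 1 ∨ z = -1) (hX2 : ∀ v, X (X v) = z • v) :
    ∃ (k : ℕ) (x y : Fin k → V), finrank F V = 2 * k ∧ (∀ a, Pair B X (InvolBlock z) (x a) (y a)) ∧
      ∀ a b, a ≠ b → B (x a) (x b) = 0 ∧ B (x a) (y b) = 0 ∧ B (y a) (y b) = 0 := by
  classical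
  let P : F → F → F → F → Prop := InvolBlock z
  exact exists_frame 1 P (fun {V} _ _ g => ∀ v, g (g v) = z • v)
    (fun g W hi h v => Subtype.ext (by simpa using h v)) (by
      intro V _ _ _ B g H hg hpos
      have : Nontrivial V := Module.nontrivial_of_finrank_pos (R := F) hpos
      obtain ⟨a, ha⟩ := exists_ne (0 : V)
      have hiso : ∀ u v, B (g u) (g v) = B u v := fun u v => by rw [H.sim, one_mul]
      have hne : ∀ {u : V}, u ≠ 0 → ∃ v, B u v ≠ 0 := fun {u} hu => by
        by_contra h
        push Not at h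
        exact hu (H.nd.1 u h)
      rcases hz with rfl | rfl
      · simp only [one_smul] at hg
        obtain ⟨u, hu0, s, hs2, hus⟩ : ∃ u, u ≠ 0 ∧ ∃ s : F, s * s = 1 ∧ g u = s • u := by
          by_cases h : g a + a = 0
          · exact ⟨a, ha, -1, by ring, by rw [neg_one_smul]; exact eq_neg_of_add_eq_zero_left h⟩
          · exact ⟨_, h, 1, by ring, by rw [one_smul, map_add, hg, add_comm]⟩
        obtain ⟨v, hv⟩ := hne hu0
        -- the component of `v` with the same eigenvalue
        set w := g v + s • v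
        have hgw : g w = s • w := by
          simp only [w, map_add, map_smul, hg, smul_add, smul_smul, hs2, one_smul, add_comm]
        have huw : B u w ≠ 0 := by
          have h1 : B u (g v) = s * B u v := by
            have h := hiso u v
            rw [hus, map_smul, LinearMap.smul_apply, smul_eq_mul] at h
            linear_combination s * h - B u (g v) * hs2
          simp only [w, map_add, map_smul, h1, smul_eq_mul]
          rw [← two_mul]
          exact mul_ne_zero h2 (mul_ne_zero (fun h => by simp [h] at hs2) hv)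
        refine ⟨u, (B u w)⁻¹ • w, by simp [huw], s, 0, 0, s, Or.inl ⟨rfl, rfl, rfl, rfl⟩, by simp [hus],
          by rw [map_smul, hgw, smul_comm, zero_smul, zero_add]⟩
      · simp only [neg_one_smul] at hg
        have hsk : ∀ u v, B v u = -B u v := fun u v => (LinearMap.IsAlt.neg H.alt u v).symm
        have hs : ∀ u v, B u (g v) = B v (g u) := fun u v => by
          rw [← hiso u (g v), hg, map_neg, ← hsk (g u) v]
        obtain ⟨b, hb⟩ := hne ha
        obtain ⟨u, hu⟩ := AltFix.exists_aniso h2 (fun u v => B u (g v)) (fun u v => by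
          simp only [map_add, LinearMap.add_apply]; ring) hs (a := a) (b := -g b) (by rwa [map_neg, hg, neg_neg])
        refine ⟨u, (B u (g u))⁻¹ • g u, by simp [hu], 0, B u (g u), -(B u (g u))⁻¹, 0,
          Or.inr ⟨rfl, rfl, rfl, hu, rfl⟩, by simp [smul_smul, hu], by simp [hg, neg_smul]⟩)
    _ B X ⟨hA, hB, one_ne_zero, fun u v => by rw [hX, one_mul]⟩ hX2 rfl

/-- An isometry squaring to `±1` normalises some skew root. -/
theorem exists_root_invol [Finite F] (h2 : (2 : F) ≠ 0) {ν : F} {V : Type v} [AddCommGroup V]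
    [Module F V] [FiniteDimensional F V] (B : LinearMap.BilinForm F V) (X : End F V) (hA : B.IsAlt) (hB : B.Nondegenerate)
    (hX : ∀ u v, B (X u) (X v) = B u v) {z : F} (hz : z = 1 ∨ z = -1) (hX2 : ∀ v, X (X v) = z • v) :
    ∃ (J : End F V) (ε : F), Root B ν J ∧ ∀ v, X (J v) = ε • J (X v) := by
  classical
  let P : F → F → F → F → Prop := InvolBlock z
  obtain ⟨k, x, y, hk, hp, ho⟩ := exists_invol_frame h2 B X hA hB hX hz hX2
  obtain ⟨β, hβ⟩ := frame_basis hA hk (fun a => (hp a).1) ho
  -- the matrix of the root on each pair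
  have hJ : ∀ a : Fin k, ∃ p q s : F, p * p + q * s = ν ∧
      ∀ a' b' c' e' : F, P a' b' c' e' → X (x a) = a' • x a + b' • y a → z = -1 → s * c' + q * b' = 0 := by
    intro a
    obtain ⟨h1, a', b', c', e', hP, h3, h4⟩ := hp a
    rcases hP with ⟨hz1, -⟩ | ⟨-, ha', -, hb', hc'⟩
    · exact ⟨0, 1, ν, by ring, fun _ _ _ _ _ _ h => absurd (hz1.symm.trans h) (fun h => h2 (by linear_combination h))⟩
    · obtain ⟨α, β', hαβ⟩ := SquareScalar.exists_quad (neg_ne_zero.2 (one_ne_zero : (1 : F) ≠ 0)) ν
      refine ⟨α, β' * b'⁻¹, β' * b', ?_, fun a'' b'' c'' e'' hP' h3' hzn => ?_⟩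
      · calc _ = α * α - -1 * (β' * β') := by field_simp; ring
          _ = ν := hαβ
      · have hb : b'' = b' := by
          have h5 := congrArg (B (x a)) (h3.symm.trans h3')
          simpa [hA.self_eq_zero, h1] using h5.symm
        rcases hP' with ⟨hz1, -⟩ | ⟨-, -, -, -, hc''⟩
        · exact absurd (hz1.symm.trans hzn) (fun h => h2 (by linear_combination h))
        · subst hb
          rw [hc'']
          field_simp
          ring
  choose p q s hpq hcond using hJ
  obtain ⟨J, hJdef⟩ : ∃ J : End F V, J = β.constr F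
      (Sum.elim (fun a => p a • x a + s a • y a) (fun a => q a • x a + -p a • y a)) := ⟨_, rfl⟩
  have hJx : ∀ a, J (x a) = p a • x a + s a • y a := fun a => by
    rw [hJdef, show x a = β (.inl a) by rw [hβ]; rfl, Basis.constr_basis]; simp [hβ]
  have hJy : ∀ a, J (y a) = q a • x a + -p a • y a := fun a => by
    rw [hJdef, show y a = β (.inr a) by rw [hβ]; rfl, Basis.constr_basis]; simp [hβ]
  have hsk : ∀ u v, B v u = -B u v := fun u v => (LinearMap.IsAlt.neg hA u v).symm
  refine ⟨J, z, ⟨fun v => ?_, fun u v => ?_⟩, fun v => ?_⟩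
  · refine LinearMap.congr_fun (f := J ∘ₗ J) (g := ν • LinearMap.id) (β.ext ?_) v
    rintro (a | a) <;> simp only [LinearMap.comp_apply, LinearMap.smul_apply, LinearMap.id_apply, hβ, Sum.elim_inl,
      Sum.elim_inr, hJx, hJy, map_add, map_smul, map_neg] <;> rw [← hpq a] <;> module
  · have h : B.compl₁₂ J LinearMap.id = -B.compl₁₂ LinearMap.id J := by
      refine LinearMap.ext_basis β β ?_
      rintro (a | a) (b | b) <;> simp only [LinearMap.compl₁₂_apply, LinearMap.neg_apply, LinearMap.id_apply, hβ,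
        Sum.elim_inl, Sum.elim_inr, hJx, hJy, map_add, map_smul, map_neg, LinearMap.add_apply, LinearMap.smul_apply,
        smul_eq_mul] <;> rcases eq_or_ne a b with rfl | hab
      all_goals first
        | (simp only [hA.self_eq_zero, hsk (x a) (y a), (hp a).1]; ring)
        | (simp only [hA.self_eq_zero, (hp a).1]; ring)
        | (simp only [(ho a b hab).1, (ho a b hab).2.1, (ho a b hab).2.2, hsk (x b) (y a), (ho b a hab.symm).2.1]; ring)
    exact LinearMap.congr_fun₂ h u v
  · refine LinearMap.congr_fun (f := X ∘ₗ J) (g := z • J ∘ₗ X) (β.ext ?_) v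
    rintro (a | a)
    all_goals
      obtain ⟨-, a', b', c', e', hP, h3, h4⟩ := hp a
      simp only [LinearMap.comp_apply, LinearMap.smul_apply, hβ, Sum.elim_inl, Sum.elim_inr, hJx, hJy, map_add, map_smul,
        h3, h4]
      rcases hP with ⟨hz1, rfl, rfl, rfl⟩ | ⟨hz1, rfl, rfl, hb', hc'⟩
      · subst hz1; module
      · have hc1 := hcond a _ _ _ _ (Or.inr ⟨hz1, rfl, rfl, hb', hc'⟩) h3 hz1
        subst hz1
        match_scalars <;> first | ring1 | linear_combination hc1 | linear_combination -hc1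

end Cfsg.Lib.Linear.SkewField
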