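import Cfsg.Prelude.Def_GeometricClasses
import Cfsg.Agent.Lib.Linear.SymplecticGroup
import Cfsg.Agent.Lib.Linear.SymplecticMax
import Cfsg.Agent.Lib.Linear.OrthSympTransfer
import Cfsg.Agent.Lib.Linear.SkewField.Eigen
import Mathlib.FieldTheory.Finite.Trace

/-!
# Fields of self-adjoint matrices for the symplectic form

A generator, the normalising elements close to the identity, simple eigenvalues of normalising elements,
and the order of the normaliser.
-/

set_option autoImplicit false

universe u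

namespace Cfsg.Lib.Linear.SkewField.SelfAdj

open Module Polynomial Cfsg.Lib.Linear Cfsg.Agent.Lib.Linear.PrimeClasses Cfsg.Agent.S5961
open scoped Matrix

variable {F : Type u} [Field F] {ι : Type} [Fintype ι] [DecidableEq ι] {k : ℕ}
  {K : Subalgebra F (Matrix ι ι F)}

theorem isField (hK : Cfsg.Geo.IsFieldSubalgebra k K) (hk : 0 < k) : IsField K where
  exists_pair_ne := (Module.nontrivial_of_finrank_pos (R := F) (M := K) (by rw [hK.finrank_eq]; exact hk)).exists_pair_ne
  mul_comm a b := Subtype.ext (hK.comm _ a.2 _ b.2)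
  mul_inv_cancel {a} ha := by
    obtain ⟨b, hb, hab⟩ := hK.inv _ a.2 (fun h => ha (Subtype.ext h))
    exact ⟨⟨b, hb⟩, Subtype.ext hab⟩

theorem eq_zero_of_mulVec (hK : Cfsg.Geo.IsFieldSubalgebra k K) {a : Matrix ι ι F} (ha : a ∈ K)
    {v : ι → F} (hv : v ≠ 0) (h : a *ᵥ v = 0) : a = 0 := by
  by_contra h0
  obtain ⟨b, hb, hab⟩ := hK.inv _ ha h0
  rw [hK.comm _ ha _ hb] at hab
  exact hv (by rw [← Matrix.one_mulVec v, ← hab, ← Matrix.mulVec_mulVec, h, Matrix.mulVec_zero])

/-- A generator. -/
structure Gen (K : Subalgebra F (Matrix ι ι F)) (q k : ℕ) (Θ : Matrix ι ι F) (P : F[X]) : Prop where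
  mem : Θ ∈ K
  irr : Irreducible P
  monic : P.Monic
  deg : P.natDegree = k
  root : aeval Θ P = 0
  span : ∀ a ∈ K, ∃ Q : F[X], a = aeval Θ Q
  dvd : P ∣ X ^ q ^ k - X
  free : ∀ v, v ≠ 0 → ∀ c : F, Θ *ᵥ v ≠ c • v

theorem exists_gen [Fintype F] (hK : Cfsg.Geo.IsFieldSubalgebra k K) (hk : k.Prime) :
    ∃ Θ P, Gen K (Fintype.card F) k Θ P := by
  classical
  letI := (isField hK hk.pos).toField
  have hfr : finrank F K = k := hK.finrank_eq
  haveI : Module.Finite F K := Module.finite_of_finrank_pos (by rw [hfr]; exact hk.pos)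
  obtain ⟨α, hα⟩ : ∃ α : K, α ∉ (⊥ : Subalgebra F K) := by
    by_contra h
    push Not at h
    have h1 : (⊥ : Subalgebra F K) = ⊤ := top_le_iff.1 fun x _ => h x
    have h2 := Subalgebra.finrank_bot (F := F) (E := K)
    rw [h1, ← Subalgebra.finrank_toSubmodule, Algebra.top_toSubmodule, finrank_top, hfr] at h2
    exact hk.one_lt.ne' h2
  have hint : IsIntegral F α := IsIntegral.of_finite F α
  have hdeg : (minpoly F α).natDegree = k := by
    rcases hk.eq_one_or_self_of_dvd _ (hfr ▸ minpoly.degree_dvd hint) with h | h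
    · obtain ⟨c, hc⟩ := minpoly.natDegree_eq_one_iff.1 h
      exact absurd (Algebra.mem_bot.2 ⟨c, hc⟩) hα
    · exact h
  haveI : Finite K := Module.finite_of_finite F
  letI := Fintype.ofFinite K
  refine ⟨α, minpoly F α, α.2, minpoly.irreducible hint, minpoly.monic hint, hdeg, ?_, fun a ha => ?_, ?_,
    fun v hv c e => ?_⟩
  · show aeval (K.val α) _ = 0
    rw [Polynomial.aeval_algHom_apply, minpoly.aeval, map_zero]
  · let b := basisOfLinearIndependentOfCardEqFinrank' _ (linearIndependent_pow (K := F) α) (by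
      rw [Fintype.card_fin, hdeg, hfr])
    refine ⟨∑ t, Polynomial.C (b.repr ⟨a, ha⟩ t) * X ^ (t : ℕ), ?_⟩
    show K.val ⟨a, ha⟩ = aeval (K.val α) _
    rw [Polynomial.aeval_algHom_apply]
    congr 1
    conv_lhs => rw [← b.sum_repr ⟨a, ha⟩]
    simp [b, Algebra.smul_def]
  · refine minpoly.dvd F α ?_
    rw [map_sub, map_pow, aeval_X, sub_eq_zero]
    have hc : Fintype.card K = Fintype.card F ^ k := by rw [Module.card_eq_pow_finrank (K := F), hfr]
    rw [← hc, FiniteField.pow_card]
  · have h := eq_zero_of_mulVec hK (K.sub_mem α.2 (K.smul_mem K.one_mem c)) hv (by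
      rw [Matrix.sub_mulVec, Matrix.smul_mulVec, Matrix.one_mulVec, e, sub_self])
    refine hα (Algebra.mem_bot.2 ⟨c, Subtype.ext ?_⟩)
    rw [sub_eq_zero.1 h]
    exact Algebra.algebraMap_eq_smul_one c

section

variable {q : ℕ} {Θ : Matrix ι ι F} {P : F[X]}

/-- Commuting with the generator gives commuting with the field. -/
theorem Gen.comm (G : Gen K q k Θ P) {A : Matrix ι ι F} (h : A * Θ = Θ * A) {a : Matrix ι ι F} (ha : a ∈ K) :
    A * a = a * A := by
  obtain ⟨Q, rfl⟩ := G.span a ha
  clear ha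
  induction Q using Polynomial.induction_on' with
  | add f g hf hg => rw [map_add, mul_add, add_mul, hf, hg]
  | monomial n c =>
    rw [aeval_monomial, ← Algebra.smul_def, mul_smul_comm, smul_mul_assoc]
    exact congrArg _ ((Commute.pow_right h n).eq)

theorem Gen.norm (G : Gen K q k Θ P) {y : GL ι F} (h : y.val * Θ = Θ * y.val) :
    y ∈ Cfsg.Geo.subalgebraNormalizer K := fun a => by
  constructor
  · intro ha
    rwa [G.comm h ha, mul_assoc, Units.mul_inv, mul_one]
  · intro ha
    have h1 := G.comm h ha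
    rw [mul_assoc _ ((y⁻¹ : GL ι F) : Matrix ι ι F) y.val, Units.inv_mul, mul_one] at h1
    rw [← (Units.mul_right_inj y).1 h1]
    exact ha

/-- Normalising elements close to the identity are linear. -/
theorem Gen.comm_of_small (G : Gen K q k Θ P) (hK : Cfsg.Geo.IsFieldSubalgebra k K) {y : GL ι F}
    (hy : y ∈ Cfsg.Geo.subalgebraNormalizer K) (W : Submodule F (ι → F)) (hW : ∀ v, y.val *ᵥ v - v ∈ W)
    (hd : 2 * finrank F W < Fintype.card ι) : y.val * Θ = Θ * y.val := by
  have hT : y.val * Θ * ((y⁻¹ : GL ι F) : Matrix ι ι F) ∈ K := (hy Θ).1 G.mem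
  generalize hT' : y.val * Θ * ((y⁻¹ : GL ι F) : Matrix ι ι F) = T at hT
  have hyT : y.val * Θ = T * y.val := by rw [← hT', mul_assoc _ (y⁻¹ : GL ι F).val y.val, Units.inv_mul, mul_one]
  by_cases h : Θ - T = 0
  · rw [hyT, ← sub_eq_zero.1 h]
  exfalso
  obtain ⟨D, hD, hTD⟩ := hK.inv _ (K.sub_mem G.mem hT) h
  have hle : (⊤ : Submodule F (ι → F)) ≤ W ⊔ W.map (Matrix.toLin' T) := fun u _ => by
    have e : u = (Θ - T) *ᵥ (D *ᵥ u) := by rw [Matrix.mulVec_mulVec, hTD, Matrix.one_mulVec]
    generalize hv : D *ᵥ u = v at e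
    have h1 := congrArg (· *ᵥ v) hyT
    rw [← Matrix.mulVec_mulVec, ← Matrix.mulVec_mulVec] at h1
    have h2 : (Θ - T) *ᵥ v = -(y.val *ᵥ (Θ *ᵥ v) - Θ *ᵥ v) + T *ᵥ (y.val *ᵥ v - v) := by
      rw [h1, Matrix.sub_mulVec, Matrix.mulVec_sub]; abel
    rw [e, h2]
    exact Submodule.add_mem_sup (W.neg_mem (hW _)) ⟨_, hW v, Matrix.toLin'_apply _ _⟩
  have h3 := (Submodule.finrank_mono hle).trans (Submodule.finrank_add_le_finrank_add_finrank _ _)
  rw [finrank_top, Module.finrank_pi] at h3
  have := Submodule.finrank_map_le (Matrix.toLin' T) W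
  omega

end

/-- Eigenvectors for a simple eigenvalue and its inverse pair. -/
theorem pairing {L : Type u} [Field L] {d : ℕ} (X : End L (Fin d ⊕ Fin d → L))
    (hX : ∀ u v, Symp.spB d L (X u) (X v) = Symp.spB d L u v) {lam mu : L} (hlm : lam * mu = 1)
    {w w' : Fin d ⊕ Fin d → L} (hw : X w = lam • w) (hw0 : w ≠ 0) (hw' : X w' = mu • w') (hw'0 : w' ≠ 0)
    (hdim : finrank L (X.maxGenEigenspace mu) ≤ 1) : Symp.spB d L w w' ≠ 0 := by
  set B := Symp.spB d L
  intro hww
  set S := X - mu • (1 : End L (Fin d ⊕ Fin d → L)) with hS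
  have horth : ∀ v, B w (S v) = 0 := fun v => by
    have h6 := hX w v
    rw [hw, map_smul, LinearMap.smul_apply, smul_eq_mul] at h6
    simp only [S, LinearMap.sub_apply, LinearMap.smul_apply, End.one_apply, map_sub, map_smul, smul_eq_mul]
    linear_combination mu * h6 - B w (X v) * hlm
  have hSw' : S w' = 0 := by
    simp only [S, LinearMap.sub_apply, LinearMap.smul_apply, End.one_apply, hw', sub_self]
  have hmem : w' ∈ X.maxGenEigenspace mu := (Module.End.mem_maxGenEigenspace _ _ _).2 ⟨1, by rw [pow_one]; exact hSw'⟩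
  have hnot : w' ∉ LinearMap.range S := by
    rintro ⟨v, hv⟩
    have hvm : v ∈ X.maxGenEigenspace mu := (Module.End.mem_maxGenEigenspace _ _ _).2 ⟨2, by
      rw [pow_two, End.mul_apply, ← hS, hv, hSw']⟩
    obtain ⟨c, hc⟩ := finrank_le_one_iff.1 hdim
    obtain ⟨a, ha⟩ := hc ⟨w', hmem⟩
    obtain ⟨b, hb⟩ := hc ⟨v, hvm⟩
    have ha' : a • (c : Fin d ⊕ Fin d → L) = w' := congrArg Subtype.val ha
    have hb' : b • (c : Fin d ⊕ Fin d → L) = v := congrArg Subtype.val hb
    have hSc : S (c : Fin d ⊕ Fin d → L) = 0 := by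
      have h := hSw'
      rw [← ha', map_smul, smul_eq_zero] at h
      exact h.resolve_left fun h => hw'0 (by rw [← ha', h, zero_smul])
    exact hw'0 (by rw [← hv, ← hb', map_smul, hSc, smul_zero])
  have hker : finrank L (LinearMap.ker S) ≤ 1 := by
    refine (Submodule.finrank_mono fun v hv => ?_).trans hdim
    exact (Module.End.mem_maxGenEigenspace _ _ _).2 ⟨1, by rw [pow_one]; exact hv⟩
  have htop : LinearMap.range S ⊔ Submodule.span L {w'} = ⊤ := by
    refine Submodule.eq_top_of_finrank_eq (le_antisymm (Submodule.finrank_le _) ?_)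
    have hlt : LinearMap.range S < LinearMap.range S ⊔ Submodule.span L {w'} := by
      refine lt_of_le_of_ne le_sup_left fun h => hnot ?_
      rw [h]
      exact Submodule.mem_sup_right (Submodule.mem_span_singleton_self _)
    have := Submodule.finrank_lt_finrank_of_lt hlt
    have := LinearMap.finrank_range_add_finrank_ker S
    omega
  refine hw0 ((Symp.spB_nondegenerate d L).1 w fun v => ?_)
  obtain ⟨_, ⟨u, rfl⟩, _, hb, rfl⟩ := Submodule.mem_sup.1 (htop ▸ Submodule.mem_top : v ∈ LinearMap.range S ⊔ Submodule.span L {w'})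
  obtain ⟨c, rfl⟩ := Submodule.mem_span_singleton.1 hb
  rw [map_add, horth, map_smul, hww, smul_zero, add_zero]

/-- An element fixed by the Frobenius comes from the ground field. -/
theorem mem_of_pow_card [Fintype F] {L : Type u} [Field L] [Algebra F L] {x : L} (h : x ^ Fintype.card F = x) :
    ∃ a : F, algebraMap F L a = x := by
  classical
  by_contra hx
  push Not at hx
  have hne : ((X : L[X]) ^ Fintype.card F - X) ≠ 0 := FiniteField.X_pow_card_sub_X_ne_zero L Fintype.one_lt_card
  have hsub : insert x (Finset.univ.image (algebraMap F L)) ⊆ ((X : L[X]) ^ Fintype.card F - X).roots.toFinset := by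
    intro y hy
    rw [Multiset.mem_toFinset, mem_roots hne]
    have hy' : y ^ Fintype.card F = y := by
      rcases Finset.mem_insert.1 hy with rfl | hy
      · exact h
      · obtain ⟨a, -, rfl⟩ := Finset.mem_image.1 hy
        rw [← map_pow, FiniteField.pow_card]
    simp [hy']
  have h1 := (Finset.card_le_card hsub).trans ((Multiset.toFinset_card_le _).trans (card_roots' _))
  rw [Finset.card_insert_of_notMem (by simpa using fun a => hx a), Finset.card_image_of_injective _ (algebraMap F L).injective,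
    Finset.card_univ, FiniteField.X_pow_card_sub_X_natDegree_eq L Fintype.one_lt_card] at h1
  omega

/-- A normalising element of order `r` has no eigenvalue which is simple and badly placed. -/
theorem no_simple [Fintype F] (p : ℕ) [Fact p.Prime] [CharP F p] {L : Type u} [Field L] [Algebra F L] [IsAlgClosed L]
    {r : ℕ} [Fact r.Prime] {ζ : L} (hζ : IsPrimitiveRoot ζ r) {d : ℕ} (hd : 2 ≤ d)
    {K : Subalgebra F (Matrix (Fin d ⊕ Fin d) (Fin d ⊕ Fin d) F)} (hk : k.Prime)
    (hsa : Cfsg.Geo.IsSelfAdjointFor (Cfsg.sympForm d F) K) {Θ : Matrix (Fin d ⊕ Fin d) (Fin d ⊕ Fin d) F} {P : F[X]}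
    (G : Gen K (Fintype.card F) k Θ P) {y : GL (Fin d ⊕ Fin d) F} (hy : y ∈ Cfsg.Geo.subalgebraNormalizer K)
    (hyr : y ^ r = 1) (hys : y ∈ Cfsg.spGL d F) {m : ZMod r → ℕ}
    (hm : y.val.charpoly.map (algebraMap F L) = Pm ζ m) {j : ZMod r} (hj : m j = 1) (t : ℕ)
    (hkt : ¬ k ∣ t)
    (ht : (Fintype.card F : ZMod r) ^ t = 1 ∨ ((Fintype.card F : ZMod r) ^ t = -1 ∧ m (-j) = 1)) : False := by
  classical
  set q := Fintype.card F with hq
  set φ := algebraMap F L
  haveI : CharP L p := charP_of_injective_algebraMap φ.injective p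
  obtain ⟨f, hpp, hf⟩ := FiniteField.card F p
  let fr : L →+* L := iterateFrobenius L p f
  have hfr : ∀ x : L, fr x = x ^ q := fun x => by rw [hq, hf]; exact iterateFrobenius_def p f x
  have hfix : ∀ a : F, fr (φ a) = φ a := fun a => by rw [hfr, ← map_pow, hq, FiniteField.pow_card]
  let M := Fin d ⊕ Fin d
  set Ym : Matrix M M L := y.val.map φ with hYm
  set Θm : Matrix M M L := Θ.map φ with hΘm
  set T : End L (M → L) := Matrix.toLin' Ym with hTdef
  have hT : ∀ v, T v = Ym *ᵥ v := fun v => Matrix.toLin'_apply _ _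
  have hdim : ∀ x, finrank L (T.maxGenEigenspace (zp ζ x)) = m x := fun x => by
    rw [LinearMap.finrank_maxGenEigenspace_eq, Matrix.charpoly_toLin', hYm, Matrix.charpoly_map, hm, count_roots_Pm hζ]
  obtain ⟨w, hw, hw0⟩ : ∃ w, Ym *ᵥ w = zp ζ j • w ∧ w ≠ 0 := by
    have hev : T.HasEigenvalue (zp ζ j) := (Module.End.hasEigenvalue_iff_isRoot_charpoly _ _).2 (by
      rw [Matrix.charpoly_toLin', hYm, Matrix.charpoly_map, hm, ← rootMultiplicity_pos (Monic.ne_zero (hm ▸
        (Matrix.charpoly_monic _).map φ)), count_roots_Pm hζ, hj]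
      exact one_pos)
    obtain ⟨w, hw⟩ := hev.exists_hasEigenvector
    exact ⟨w, by rw [← hT]; exact Module.End.mem_eigenspace_iff.1 hw.1, hw.2⟩
  have hwgen : w ∈ T.maxGenEigenspace (zp ζ j) := (Module.End.mem_maxGenEigenspace _ _ _).2 ⟨1, by
    rw [pow_one, LinearMap.sub_apply, LinearMap.smul_apply, End.one_apply, hT, hw, sub_self]⟩
  have heig : ∀ v, Ym *ᵥ v = zp ζ j • v → ∃ c : L, v = c • w := fun v hv => by
    have h2 : v ∈ T.maxGenEigenspace (zp ζ j) := (Module.End.mem_maxGenEigenspace _ _ _).2 ⟨1, by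
      rw [pow_one, LinearMap.sub_apply, LinearMap.smul_apply, End.one_apply, hT, hv, sub_self]⟩
    obtain ⟨c, hc⟩ := (finrank_eq_one_iff_of_nonzero' (⟨w, hwgen⟩ : T.maxGenEigenspace (zp ζ j))
      (fun h => hw0 (congrArg Subtype.val h))).1 ((hdim j).trans hj) ⟨v, h2⟩
    exact ⟨c, (congrArg Subtype.val hc).symm⟩
  let ψ : Matrix M M F →ₐ[F] Matrix M M L := (Algebra.ofId F L).mapMatrix
  have hψ : ∀ A, ψ A = A.map φ := fun A => rfl
  have hPs : ∀ {v : M → L} {s : L}, v ≠ 0 → Θm *ᵥ v = s • v → aeval s P = 0 := fun {v s} hv0 hv => by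
    have h1 : aeval Θm P = 0 := by rw [hΘm, ← hψ, Polynomial.aeval_algHom_apply, G.root, map_zero]
    have h3 : ∀ Q : F[X], (aeval Θm Q) *ᵥ v = (aeval s Q) • v := fun Q => by
      induction Q using Polynomial.induction_on' with
      | add f g hf hg => rw [map_add, map_add, Matrix.add_mulVec, hf, hg, add_smul]
      | monomial n c =>
        rw [aeval_monomial, aeval_monomial, ← Algebra.smul_def, ← Algebra.smul_def, Matrix.smul_mulVec, smul_assoc]
        congr 1
        induction n with
        | zero => simp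
        | succ n ih => rw [pow_succ, ← Matrix.mulVec_mulVec, hv, Matrix.mulVec_smul, ih, smul_smul, pow_succ']
    exact (smul_eq_zero.1 (by rw [← h3, h1, Matrix.zero_mulVec])).resolve_right hv0
  have hmin : ∀ {s : L}, aeval s P = 0 → minpoly F s = P := fun {s} hs =>
    (minpoly.eq_of_irreducible_of_monic G.irr hs G.monic).symm
  by_cases hcm : y.val * Θ = Θ * y.val
  · have hcm' : Ym * Θm = Θm * Ym := by rw [hYm, hΘm, ← Matrix.map_mul, hcm, Matrix.map_mul]
    obtain ⟨s, hs⟩ := heig (Θm *ᵥ w) (by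
      rw [Matrix.mulVec_mulVec, hcm', ← Matrix.mulVec_mulVec, hw, Matrix.mulVec_smul])
    have hsP := hPs hw0 hs
    let fv : (M → L) → (M → L) := fun v a => fr (v a)
    have hfv : ∀ (A : Matrix M M F) v, fv (A.map φ *ᵥ v) = A.map φ *ᵥ fv v := fun A v => funext fun a => by
      simp [fv, Matrix.mulVec, dotProduct, map_sum, map_mul, hfix]
    have hfs : ∀ (c : L) v, fv (c • v) = fr c • fv v := fun c v => funext fun a => by simp [fv]
    have hiter : ∀ a : ℕ, Ym *ᵥ (fv^[a] w) = zp ζ (((q : ℕ) : ZMod r) ^ a * j) • fv^[a] w ∧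
        Θm *ᵥ (fv^[a] w) = (s ^ q ^ a) • fv^[a] w ∧ fv^[a] w ≠ 0 := by
      intro a
      induction a with
      | zero => simp [hw, hs, hw0]
      | succ a ih =>
        obtain ⟨h1, h3, h4⟩ := ih
        rw [Function.iterate_succ_apply']
        refine ⟨?_, ?_, fun h => h4 (funext fun b => (map_eq_zero fr).1 (congrFun h b))⟩
        · rw [hYm, ← hfv, ← hYm, h1, hfs, hfr, zp_pow hζ, pow_succ', mul_assoc]
        · rw [hΘm, ← hfv, ← hΘm, h3, hfs, hfr, ← pow_mul, ← pow_succ]
    obtain ⟨h1, h3, hne⟩ := hiter t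
    -- the eigenvalue of the generator is fixed
    have hst : s ^ q ^ t = s := by
      rcases ht with ht | ⟨ht, hmj⟩
      · rw [ht, one_mul] at h1
        obtain ⟨c, hc⟩ := heig _ h1
        have hc0 : c ≠ 0 := fun h => hne (by rw [hc, h, zero_smul])
        rw [hc, Matrix.mulVec_smul, hs, smul_smul, smul_smul] at h3
        have h5 := smul_left_injective L hw0 h3
        exact mul_left_cancel₀ hc0 (by linear_combination -h5)
      · rw [ht, neg_one_mul] at h1
        have hJ : (Matrix.J (Fin d) F).map φ = Matrix.J (Fin d) L := by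
          simp [Matrix.J, Matrix.fromBlocks_map, Matrix.map_one, Matrix.map_neg]
        have hsp : y.val ∈ Matrix.symplecticGroup (Fin d) F := (Symp.mem_symplecticGroup_iff _).2 fun u v => by
          rw [Symp.spB_apply, Symp.spB_apply]; exact hys u v
        have hBY : ∀ u v, Symp.spB d L (Ym *ᵥ u) (Ym *ᵥ v) = Symp.spB d L u v := fun u v => by
          refine (Symp.mem_symplecticGroup_iff _).1 (SymplecticGroup.mem_iff'.2 ?_) u v
          rw [hYm, ← hJ, ← Matrix.transpose_map, ← Matrix.map_mul, ← Matrix.map_mul, SymplecticGroup.mem_iff'.1 hsp]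
        have hself : Θᵀ * Matrix.J (Fin d) F = Matrix.J (Fin d) F * Θ := by
          refine Matrix.ext_iff_mulVec.2 fun v => dotProduct_eq _ _ fun u => ?_
          have h := hsa Θ G.mem u v
          simp only [Cfsg.sympForm] at h
          rw [dotProduct_comm, dotProduct_comm _ u, ← Matrix.mulVec_mulVec,
            ← Matrix.mulVec_mulVec, Matrix.dotProduct_mulVec, Matrix.vecMul_transpose]
          exact h
        have hBΘ : ∀ u v, Symp.spB d L (Θm *ᵥ u) v = Symp.spB d L u (Θm *ᵥ v) := fun u v => by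
          rw [Symp.spB_apply, Symp.spB_apply, Cfsg.sympForm, Cfsg.sympForm, ← Matrix.vecMul_transpose, hΘm,
            ← Matrix.dotProduct_mulVec, Matrix.mulVec_mulVec, Matrix.mulVec_mulVec, ← hJ, ← Matrix.transpose_map,
            ← Matrix.map_mul, ← Matrix.map_mul, hself]
        have hpair := pairing T (fun u v => by rw [hT, hT]; exact hBY u v)
          (show zp ζ j * zp ζ (-j) = 1 by rw [← zp_add hζ, add_neg_cancel, zp_zero]) (by rw [hT]; exact hw) hw0
          (by rw [hT]; exact h1) hne (by rw [hdim, hmj])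
        have h := hBΘ w (fv^[t] w)
        rw [hs, h3, map_smul, LinearMap.smul_apply, map_smul, smul_eq_mul, smul_eq_mul] at h
        exact (mul_right_cancel₀ hpair h).symm
    -- periods
    have hsk : s ^ q ^ k = s := by
      obtain ⟨c, hc⟩ := G.dvd
      have h5 := congrArg (aeval s) hc
      rw [map_mul, hsP, zero_mul, map_sub, map_pow, aeval_X, sub_eq_zero] at h5
      exact h5
    have hper : ∀ n, (fun x : L => x ^ q)^[n] s = s ^ q ^ n := fun n => by
      induction n with
      | zero => simp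
      | succ n ih => rw [Function.iterate_succ_apply', ih]; show (s ^ q ^ n) ^ q = _; rw [← pow_mul, ← pow_succ]
    have h1' : Function.IsPeriodicPt (fun x : L => x ^ q) (Nat.gcd t k) s :=
      Function.IsPeriodicPt.gcd (show Function.IsPeriodicPt _ t s by rw [Function.IsPeriodicPt, Function.IsFixedPt, hper, hst])
        (show Function.IsPeriodicPt _ k s by rw [Function.IsPeriodicPt, Function.IsFixedPt, hper, hsk])
    rw [show Nat.gcd t k = 1 from Nat.Coprime.gcd_eq_one ((hk.coprime_iff_not_dvd.2 hkt).symm)] at h1'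
    obtain ⟨a, ha⟩ := mem_of_pow_card (F := F) (show s ^ q = s from h1')
    have h6 := hmin hsP
    rw [← ha, minpoly.eq_X_sub_C L a] at h6
    exact hk.one_lt.ne (by rw [← G.deg, ← h6, natDegree_X_sub_C])
  · -- semilinear elements
    have hpow : ∀ n : ℕ, ∃ Q : F[X], ((y ^ n)⁻¹ : GL M F).val * Θ * (y ^ n).val = aeval Θ Q := fun n => by
      have h1 := ((inv_mem (pow_mem hy n) : (y ^ n)⁻¹ ∈ Cfsg.Geo.subalgebraNormalizer K) Θ).1 G.mem
      rw [inv_inv] at h1
      exact G.span _ h1
    choose Q hQ using hpow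
    have hmove : ∀ (n : ℕ) {s : L} {v : M → L}, Θm *ᵥ v = s • v →
        Θm *ᵥ (Ym ^ n *ᵥ v) = aeval s (Q n) • (Ym ^ n *ᵥ v) := fun n {s v} hv => by
      have h1 : Θ * (y ^ n).val = (y ^ n).val * aeval Θ (Q n) := by
        rw [← hQ, ← mul_assoc, ← mul_assoc, Units.mul_inv, one_mul]
      have h2 := congrArg (fun A => ψ A) h1
      simp only [map_mul] at h2
      rw [Units.val_pow_eq_pow_val, map_pow, ← Polynomial.aeval_algHom_apply, hψ, hψ] at h2
      have h3 : ∀ R : F[X], (aeval Θm R) *ᵥ v = (aeval s R) • v := fun R => by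
        induction R using Polynomial.induction_on' with
        | add f g hf hg => rw [map_add, map_add, Matrix.add_mulVec, hf, hg, add_smul]
        | monomial n c =>
          rw [aeval_monomial, aeval_monomial, ← Algebra.smul_def, ← Algebra.smul_def, Matrix.smul_mulVec, smul_assoc]
          congr 1
          induction n with
          | zero => simp
          | succ n ih => rw [pow_succ, ← Matrix.mulVec_mulVec, hv, Matrix.mulVec_smul, ih, smul_smul, pow_succ']
      rw [Matrix.mulVec_mulVec, h2, ← Matrix.mulVec_mulVec, h3, Matrix.mulVec_smul]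
    have hr : r.Prime := Fact.out
    have hdist : ∀ {s : L}, aeval s P = 0 → ∀ a b : Fin r, aeval s (Q a) = aeval s (Q b) → a = b := by
      intro s hs a b hab
      by_contra hne
      wlog hlt : (a : ℕ) < b generalizing a b
      · exact this b a hab.symm (Ne.symm hne) (by
          have : (a : ℕ) ≠ b := fun h => hne (Fin.ext h)
          omega)
      have h1 : aeval Θ (Q a) = aeval Θ (Q b) := by
        obtain ⟨c, hc⟩ := hmin hs ▸ minpoly.dvd F s (show aeval s (Q a - Q b) = 0 by rw [map_sub, hab, sub_self])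
        rw [← sub_eq_zero, ← map_sub, hc, map_mul, G.root, zero_mul]
      rw [← hQ, ← hQ] at h1
      have h2 : (y ^ ((b : ℕ) - a)).val * Θ = Θ * (y ^ ((b : ℕ) - a)).val := by
        have h3 := congrArg (fun A => (y ^ (b : ℕ)).val * A * ((y ^ (a : ℕ))⁻¹ : GL M F).val) h1
        simp only [← mul_assoc, Units.mul_inv, one_mul] at h3
        rw [mul_assoc _ (y ^ (a : ℕ)).val, Units.mul_inv, mul_one, ← Units.val_mul, mul_assoc Θ, ← Units.val_mul,
          ← pow_sub y hlt.le] at h3
        exact h3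
      obtain ⟨e, -, he⟩ := Nat.exists_mul_mod_eq_one_of_coprime
        (show Nat.Coprime ((b : ℕ) - a) r from (hr.coprime_iff_not_dvd.2 (fun h => by
          have := Nat.le_of_dvd (by omega) h
          have := b.2
          omega)).symm) hr.one_lt
      have h4 : (y ^ ((b : ℕ) - a)) ^ e = y := by
        rw [← pow_mul, ← pow_mod_orderOf, orderOf_eq_prime hyr (fun h => hcm (by rw [h, Units.val_one, one_mul, mul_one])),
          he, pow_one]
      refine hcm ?_
      rw [← h4, Units.val_pow_eq_pow_val]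
      exact (Commute.pow_left h2 e).eq
    -- the eigenspaces of the generator are lines
    set μ := zp ζ (-j) with hμ
    have hμr : μ ^ r = 1 := by rw [zp_pow hζ, ZMod.natCast_self, zero_mul, zp_zero]
    have hYr : Ym ^ r = 1 := by
      rw [hYm, ← hψ, ← map_pow, ← Units.val_pow_eq_pow_val, hyr, Units.val_one, map_one]
    let z : End L (M → L) := ∑ a ∈ Finset.range r, μ ^ a • Matrix.toLin' (Ym ^ a)
    have hz : ∀ u, z u = ∑ a ∈ Finset.range r, μ ^ a • (Ym ^ a *ᵥ u) := fun u => by simp only [z, LinearMap.sum_apply, LinearMap.smul_apply, Matrix.toLin'_apply]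
    have hYz : ∀ u, Ym *ᵥ z u = zp ζ j • z u := fun u => by
      have hlm : zp ζ j * μ = 1 := by rw [hμ, ← zp_add hζ, add_neg_cancel, zp_zero]
      let g : ℕ → (M → L) := fun a => μ ^ a • (Ym ^ a *ᵥ u)
      have hg : ∑ a ∈ Finset.range r, g (a + 1) = ∑ a ∈ Finset.range r, g a := by
        have h1 := Finset.sum_range_succ g r
        have h2 := Finset.sum_range_succ' g r
        have h3 : g r = g 0 := by simp [g, hμr, hYr]
        rw [h1, h3] at h2
        exact (add_right_cancel h2).symm
      rw [hz, Matrix.mulVec_sum, Finset.smul_sum]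
      conv_rhs => rw [← Finset.smul_sum, show (∑ a ∈ Finset.range r, μ ^ a • (Ym ^ a *ᵥ u)) = ∑ a ∈ Finset.range r, g a from rfl, ← hg,
        Finset.smul_sum]
      refine Finset.sum_congr rfl fun a _ => ?_
      simp only [g]
      rw [Matrix.mulVec_smul, Matrix.mulVec_mulVec, ← pow_succ', smul_smul, pow_succ' μ, ← mul_assoc, hlm, one_mul]
    have hline : ∀ s : L, aeval s P = 0 → finrank L (Module.End.eigenspace (Matrix.toLin' Θm) s) ≤ 1 := by
      intro s hs
      let ρ : Module.End.eigenspace (Matrix.toLin' Θm) s →ₗ[L] T.maxGenEigenspace (zp ζ j) :=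
        LinearMap.codRestrict _ (z ∘ₗ Submodule.subtype _) fun u => (Module.End.mem_maxGenEigenspace _ _ _).2 ⟨1, by
          rw [pow_one, LinearMap.sub_apply, LinearMap.smul_apply, End.one_apply, hT, LinearMap.comp_apply, hYz, sub_self]⟩
      refine (LinearMap.finrank_le_finrank_of_injective (f := ρ) ?_).trans ((hdim j).trans hj).le
      refine (injective_iff_map_eq_zero ρ).2 fun u hu => ?_
      by_contra hu0
      have hu0' : (u : M → L) ≠ 0 := fun h => hu0 (Subtype.ext h)
      have hΘu : Θm *ᵥ (u : M → L) = s • (u : M → L) := by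
        rw [← Matrix.toLin'_apply]; exact Module.End.mem_eigenspace_iff.1 u.2
      have hne : ∀ a : ℕ, Ym ^ a *ᵥ (u : M → L) ≠ 0 := fun a h => by
        have h1 := congrArg ((Ym ^ (r * a - a)) *ᵥ ·) h
        rw [Matrix.mulVec_mulVec, ← pow_add, Nat.sub_add_cancel (Nat.le_mul_of_pos_left a hr.pos), pow_mul, hYr,
          one_pow, Matrix.one_mulVec, Matrix.mulVec_zero] at h1
        exact hu0' h1
      have hli := Module.End.eigenvectors_linearIndependent' (Matrix.toLin' Θm) (fun a : Fin r => aeval s (Q a))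
        (fun a b h => hdist hs a b h) (fun a => Ym ^ (a : ℕ) *ᵥ (u : M → L))
        (fun a => ⟨Module.End.mem_eigenspace_iff.2 (by rw [Matrix.toLin'_apply]; exact hmove a hΘu), hne a⟩)
      have hsum : ∑ a : Fin r, μ ^ (a : ℕ) • (Ym ^ (a : ℕ) *ᵥ (u : M → L)) = 0 := by
        rw [Fin.sum_univ_eq_sum_range (fun a => μ ^ a • (Ym ^ a *ᵥ (u : M → L))), ← hz]
        exact congrArg Subtype.val hu
      have h5 := Fintype.linearIndependent_iff.1 hli _ hsum ⟨0, hr.pos⟩
      simp at h5
    -- too few roots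
    have hPsep : (P.map φ).Separable := Polynomial.Separable.map (PerfectField.separable_of_irreducible G.irr)
    set T₂ : End L (M → L) := Matrix.toLin' Θm with hT₂
    have hss : T₂.IsSemisimple := by
      refine Module.End.isSemisimple_of_squarefree_aeval_eq_zero hPsep.squarefree ?_
      rw [Polynomial.aeval_map_algebraMap, hT₂, hΘm, ← hψ]
      show aeval (Matrix.toLinAlgEquiv'.toAlgHom.restrictScalars F (ψ Θ)) P = 0
      rw [Polynomial.aeval_algHom_apply, Polynomial.aeval_algHom_apply, G.root, map_zero, map_zero]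
    set χ := Θm.charpoly
    have hroot : ∀ s ∈ χ.roots, aeval s P = 0 := fun s hs => by
      have hev : T₂.HasEigenvalue s := (Module.End.hasEigenvalue_iff_isRoot_charpoly _ _).2 (by
        rw [hT₂, Matrix.charpoly_toLin']; exact (mem_roots'.1 hs).2)
      obtain ⟨v, hv⟩ := hev.exists_hasEigenvector
      exact hPs hv.2 (by rw [← Matrix.toLin'_apply]; exact Module.End.mem_eigenspace_iff.1 hv.1)
    have hnd : χ.roots.Nodup := Multiset.nodup_iff_count_le_one.2 fun s => by
      by_cases hs : s ∈ χ.roots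
      · rw [count_roots, show χ = LinearMap.charpoly T₂ from (Matrix.charpoly_toLin' Θm).symm, ← LinearMap.finrank_maxGenEigenspace_eq,
          hss.isFinitelySemisimple.maxGenEigenspace_eq_eigenspace]
        exact hline s (hroot s hs)
      · rw [Multiset.count_eq_zero.2 hs]; exact zero_le_one
    have hcard : Multiset.card χ.roots = 2 * d := by
      rw [IsAlgClosed.card_roots_eq_natDegree, Matrix.charpoly_natDegree_eq_dim, Fintype.card_sum, Fintype.card_fin, two_mul]
    have hPne : P.map φ ≠ 0 := (G.monic.map φ).ne_zero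
    have hle : 2 * d ≤ k := by
      rw [← hcard, ← Multiset.toFinset_card_of_nodup hnd, ← G.deg]
      refine le_trans (Finset.card_le_card (t := (P.map φ).roots.toFinset) fun s hs => ?_)
        ((Multiset.toFinset_card_le _).trans ((card_roots' _).trans (natDegree_map φ).le))
      rw [Multiset.mem_toFinset] at hs ⊢
      rw [mem_roots hPne, IsRoot, eval_map, ← aeval_def]
      exact hroot s hs
    -- the dimension is a multiple of the degree
    have hdvd : k ∣ 2 * d := by
      have h7 : ∀ R : F[X], R.Monic → Irreducible R → R ∣ Θ.charpoly → R = P := fun R hR hRi hRd => by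
        have hR0 : R.degree ≠ 0 := (degree_pos_of_irreducible hRi).ne'
        obtain ⟨s, hs⟩ := IsAlgClosed.exists_aeval_eq_zero L R hR0
        have hsχ : s ∈ χ.roots := by
          rw [mem_roots (Matrix.charpoly_monic _).ne_zero, IsRoot, show Θm.charpoly = Θ.charpoly.map φ from Matrix.charpoly_map Θ φ,
            eval_map, ← aeval_def]
          obtain ⟨c, hc⟩ := hRd
          rw [hc, map_mul, hs, zero_mul]
        exact (minpoly.eq_of_irreducible_of_monic hRi hs hR).trans (hmin (hroot s hsχ))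
      have h8 : ∀ N : ℕ, ∀ R : F[X], R.natDegree = N → R.Monic → R ∣ Θ.charpoly → k ∣ N := by
        intro N
        induction N using Nat.strong_induction_on with
        | _ N ih =>
          intro R hN hR hRd
          rcases Nat.eq_zero_or_pos N with rfl | hpos
          · exact dvd_zero k
          obtain ⟨S, hSi, hS⟩ := WfDvdMonoid.exists_irreducible_factor
            (fun h => by rw [natDegree_eq_zero_of_isUnit h] at hN; omega) hR.ne_zero
          have hSm := Polynomial.monic_normalize hSi.ne_zero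
          have hass : Associated (normalize S) S := normalize_associated S
          have hSP : normalize S = P := h7 _ hSm (hass.symm.irreducible hSi) ((hass.dvd.trans hS).trans hRd)
          obtain ⟨R', hR'⟩ : P ∣ R := hSP ▸ hass.dvd.trans hS
          have hR'm : R'.Monic := G.monic.of_mul_monic_left (hR' ▸ hR)
          have h9 : N = k + R'.natDegree := by rw [← hN, hR', G.monic.natDegree_mul hR'm, G.deg]
          rw [h9]
          exact dvd_add dvd_rfl (ih _ (by have := hk.pos; omega) R' rfl hR'm ((Dvd.intro_left P hR'.symm).trans hRd))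
      exact h8 _ Θ.charpoly (by rw [Matrix.charpoly_natDegree_eq_dim, Fintype.card_sum, Fintype.card_fin, two_mul])
        (Matrix.charpoly_monic _) dvd_rfl
    have hkd : k = 2 * d := le_antisymm (Nat.le_of_dvd (by omega) hdvd) hle
    exact Nat.not_prime_mul (by norm_num) (show d ≠ 1 by omega) (hkd ▸ hk)

/-- The normaliser contains the symplectic group over the field. -/
theorem exists_card [Fintype F] {d : ℕ} {K : Subalgebra F (Matrix (Fin d ⊕ Fin d) (Fin d ⊕ Fin d) F)}
    (hK : Cfsg.Geo.IsFieldSubalgebra k K) (hk : 0 < k) (hsa : Cfsg.Geo.IsSelfAdjointFor (Cfsg.sympForm d F) K)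
    (halt : ∀ a ∈ K, ∀ v : Fin d ⊕ Fin d → F, Cfsg.sympForm d F (a *ᵥ v) v = 0) :
    ∃ e : ℕ, k * e = d ∧ (Fintype.card F ^ k) ^ (e ^ 2) * ∏ i ∈ Finset.range e, ((Fintype.card F ^ k) ^ (2 * (i + 1)) - 1)
      ∣ Nat.card ↥(Cfsg.Geo.subalgebraNormalizer K ⊓ Cfsg.spGL d F) := by
  classical
  letI := (isField hK hk).toField
  let V := Fin d ⊕ Fin d → F
  set B := Symp.spB d F
  have hfr : finrank F K = k := hK.finrank_eq
  haveI : Module.Finite F K := Module.finite_of_finrank_pos (by rw [hfr]; exact hk)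
  haveI : Finite K := Module.finite_of_finite F
  letI := Fintype.ofFinite K
  letI : Module K V :=
    { smul := fun a v => (a : Matrix (Fin d ⊕ Fin d) (Fin d ⊕ Fin d) F) *ᵥ v
      one_smul := fun v => Matrix.one_mulVec v
      mul_smul := fun a b v => (Matrix.mulVec_mulVec v _ _).symm
      smul_zero := fun a => Matrix.mulVec_zero _
      smul_add := fun a u v => Matrix.mulVec_add _ u v
      add_smul := fun a b v => Matrix.add_mulVec _ _ v
      zero_smul := fun v => Matrix.zero_mulVec v }
  have hsmul : ∀ (a : K) (v : V), a • v = (a : Matrix (Fin d ⊕ Fin d) (Fin d ⊕ Fin d) F) *ᵥ v := fun a v => rfl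
  haveI : IsScalarTower F K V := ⟨fun c a v => Matrix.smul_mulVec c _ v⟩
  have hself : ∀ (a : K) u v, B (a • u) v = B u (a • v) := fun a u v => by
    rw [Symp.spB_apply, Symp.spB_apply]; exact hsa _ a.2 u v
  have hnd := traceForm_nondegenerate F K
  let e' := (Algebra.traceForm F K).toDual hnd
  let lin : V → V → Module.Dual F K := fun u v =>
    { toFun := fun a => B (a • u) v
      map_add' := fun a b => by rw [add_smul, map_add, LinearMap.add_apply]
      map_smul' := fun c a => by rw [smul_assoc, map_smul, LinearMap.smul_apply, RingHom.id_apply] }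
  let Φ : V → V → K := fun u v => e'.symm (lin u v)
  have hΦ : ∀ u v (a : K), Algebra.trace F K (Φ u v * a) = B (a • u) v := fun u v a =>
    LinearMap.BilinForm.apply_toDual_symm_apply (hB := hnd) (lin u v) a
  have hext : ∀ x y : K, (∀ a, Algebra.trace F K (x * a) = Algebra.trace F K (y * a)) → x = y := fun x y h =>
    sub_eq_zero.1 (hnd.1 _ fun a => by
      rw [Algebra.traceForm_apply, sub_mul, map_sub, h, sub_self])
  let Φ' : LinearMap.BilinForm K V := LinearMap.mk₂ K Φ
    (fun u u' v => hext _ _ fun a => by rw [add_mul, map_add, hΦ, hΦ, hΦ, smul_add, map_add, LinearMap.add_apply])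
    (fun c u v => hext _ _ fun a => by
      rw [smul_eq_mul, hΦ, show c * Φ u v * a = Φ u v * (a * c) by ring, hΦ, smul_smul])
    (fun u v v' => hext _ _ fun a => by rw [add_mul, map_add, hΦ, hΦ, hΦ, map_add])
    (fun c u v => hext _ _ fun a => by
      rw [smul_eq_mul, hΦ, show c * Φ u v * a = Φ u v * (c * a) by ring, hΦ, mul_smul, hself c (a • u)])
  have hA : Φ'.IsAlt := fun u => hext _ _ fun a => by
    show Algebra.trace F K (Φ u u * a) = _
    rw [hΦ, zero_mul, map_zero, Symp.spB_apply]
    exact halt _ a.2 u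
  have hB' : ∀ u v, B u v = Algebra.trace F K (Φ' u v) := fun u v => by
    show _ = Algebra.trace F K (Φ u v)
    rw [← mul_one (Φ u v), hΦ, one_smul]
  have hN : Φ'.Nondegenerate := by
    have h1 : ∀ u, (∀ v, Φ' u v = 0) → u = 0 := fun u hu =>
      (Symp.spB_nondegenerate d F).1 u fun v => by rw [hB', hu, map_zero]
    exact ⟨h1, fun u hu => h1 u fun v => hA.isRefl _ _ (hu v)⟩
  haveI : Module.Finite K V := Module.Finite.of_restrictScalars_finite F K V
  obtain ⟨e, -, he, -⟩ := Cfsg.Lib.Linear.OrthSympTransfer.even_finrank Φ' hA hN.1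
  have hd : finrank F K * finrank K V = finrank F V := Module.finrank_mul_finrank F K V
  rw [hfr, he, Symp.finrank_space] at hd
  refine ⟨e, Nat.eq_of_mul_eq_mul_left two_pos (by rw [← hd]; ring), ?_⟩
  have hKc : Fintype.card K = Fintype.card F ^ k := by rw [Module.card_eq_pow_finrank (K := F), hfr]
  rw [← hKc, ← Symp.card_iso hN hA he]
  let res : (V ≃ₗ[K] V) →* (V ≃ₗ[F] V) :=
    { toFun := fun g => g.restrictScalars F
      map_one' := rfl
      map_mul' := fun g h => rfl }
  let ρ : ↥(Symp.iso Φ') →* GL (Fin d ⊕ Fin d) F :=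
    ((Symp.glEquiv (Fin d ⊕ Fin d) F).symm.toMonoidHom.comp res).comp (Symp.iso Φ').subtype
  have hρ : ∀ g v, (ρ g).val *ᵥ v = (g : V ≃ₗ[K] V) v := fun g v => by
    rw [← Symp.glEquiv_apply]
    exact LinearEquiv.congr_fun ((Symp.glEquiv (Fin d ⊕ Fin d) F).apply_symm_apply (res g)) v
  have hmem : ∀ g, ρ g ∈ Cfsg.Geo.subalgebraNormalizer K ⊓ Cfsg.spGL d F := fun g => by
    refine ⟨fun a => ?_, fun u v => ?_⟩
    · have hc : ∀ b : K, (ρ g).val * b.1 * ((ρ g)⁻¹ : GL (Fin d ⊕ Fin d) F).val = b.1 := fun b => by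
        have h1 : (ρ g).val * b.1 = b.1 * (ρ g).val := Matrix.ext_iff_mulVec.2 fun v => by
          rw [← Matrix.mulVec_mulVec, ← Matrix.mulVec_mulVec, hρ, hρ, ← hsmul, ← hsmul, map_smul]
        rw [h1, mul_assoc, Units.mul_inv, mul_one]
      refine ⟨fun ha => by rw [hc ⟨a, ha⟩]; exact ha, fun ha => ?_⟩
      have h2 := hc ⟨_, ha⟩
      have h3 := (Units.mul_right_inj (ρ g)).1 ((Units.mul_left_inj (ρ g)⁻¹).1 h2)
      rw [← h3]
      exact ha
    · show Cfsg.sympForm d F ((ρ g).val *ᵥ u) ((ρ g).val *ᵥ v) = Cfsg.sympForm d F u v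
      rw [← Symp.spB_apply, ← Symp.spB_apply, hρ, hρ, hB', hB', g.2 u v]
  have hinj : Function.Injective (ρ.codRestrict _ hmem) := fun g g' h => by
    refine Subtype.ext (LinearEquiv.ext fun v => ?_)
    rw [← hρ g, ← hρ g']
    exact congrArg (fun x : GL (Fin d ⊕ Fin d) F => x.val *ᵥ v) (congrArg Subtype.val h)
  exact Subgroup.card_dvd_of_injective _ hinj

end Cfsg.Lib.Linear.SkewField.SelfAdj
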