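import Cfsg.Prelude.Def_GeometricClasses
import Cfsg.Agent.Lib.Linear.OverfieldAlg
import Cfsg.Agent.Lib.Linear.IsotropicFix.OrthReduce
import Cfsg.Agent.Lib.Linear.SkewField.SelfAdj
import Cfsg.Agent.S5955

/-!
# Quadratic fields of self-adjoint matrices on orthogonal spaces

A trace-zero generator, its normaliser, and elements of odd prime order that normalise no conjugate.
-/

set_option autoImplicit false

universe u

namespace Cfsg.Lib.Linear.SkewField.OrthRoot

open Module Polynomial Cfsg.Lib.Linear.Orth Cfsg.Agent.Lib.Linear.PrimeClasses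
open scoped Matrix

variable {F : Type u} [Field F] {ι : Type} [Fintype ι] [DecidableEq ι]
  {Q : (ι → F) → F} {B : LinearMap.BilinForm F (ι → F)}
  {K : Subalgebra F (Matrix ι ι F)} {Θ : Matrix ι ι F} {ν : F}

/-- A self-adjoint generator whose square is a non-square scalar. -/
structure Root (Q : (ι → F) → F) (B : LinearMap.BilinForm F (ι → F)) (K : Subalgebra F (Matrix ι ι F))
    (Θ : Matrix ι ι F) (ν : F) : Prop where
  space : Space Q B
  two : (2 : F) ≠ 0
  sq : ∀ v, Θ *ᵥ (Θ *ᵥ v) = ν • v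
  ns : ¬ IsSquare ν
  sa : ∀ u v, B (Θ *ᵥ u) v = B u (Θ *ᵥ v)
  mem : ∀ a, a ∈ K ↔ ∃ u v : F, a = u • 1 + v • Θ

theorem exists_root (C : Space Q B) (h2 : (2 : F) ≠ 0) (hK : Cfsg.Geo.IsFieldSubalgebra 2 K)
    (hKf : Cfsg.Geo.IsSelfAdjointFor (QuadraticMap.polar Q) K) : ∃ Θ ν, Root Q B K Θ ν := by
  obtain ⟨T, t, N, hT, hmem, hsq, -, hfree⟩ := exists_quad_gen K hK
  obtain ⟨T₀, hT₀⟩ : ∃ T₀, T₀ = T - (t / 2) • 1 := ⟨_, rfl⟩
  obtain ⟨ν, hν⟩ : ∃ ν, ν = t / 2 * (t / 2) - N := ⟨_, rfl⟩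
  have hT₀K : T₀ ∈ K := hT₀ ▸ K.sub_mem hT (K.smul_mem K.one_mem _)
  have hsq' : T₀ * T₀ = ν • 1 := by
    simp only [hT₀, sub_mul, mul_sub, Matrix.smul_mul, Matrix.mul_smul, one_mul, mul_one, hsq]
    match_scalars <;> (try simp only [hν]) <;> field_simp <;> ring
  refine ⟨T₀, ν, C, h2, fun v => ?_, ?_, fun u v => ?_, fun a => ?_⟩
  · rw [Matrix.mulVec_mulVec, hsq', Matrix.smul_mulVec, Matrix.one_mulVec]
  · rintro ⟨s, hs⟩
    have hne : (T₀ - s • 1) * (T₀ + s • 1) = 0 := by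
      simp only [sub_mul, mul_add, Matrix.smul_mul, Matrix.mul_smul, one_mul, mul_one, hsq', hs, smul_smul]
      module
    have hno : ∀ c : F, T₀ - c • 1 ≠ 0 := fun c h => by
      obtain ⟨i⟩ : Nonempty ι := by
        by_contra hi
        haveI := not_nonempty_iff.1 hi
        have h1 := Module.finrank_zero_of_subsingleton (R := F) (M := K)
        rw [hK.finrank_eq] at h1
        exact two_ne_zero h1
      refine hfree (Pi.single i 1) (by simp) (c + t / 2) ?_
      rw [show T = (c + t / 2) • 1 from sub_eq_zero.1 (by rw [← h, hT₀]; module), Matrix.smul_mulVec,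
        Matrix.one_mulVec]
    obtain ⟨y, -, hy⟩ := hK.inv _ (K.sub_mem hT₀K (K.smul_mem K.one_mem s)) (hno s)
    refine hno (-s) ?_
    have h1 : y * (T₀ - s • 1) = 1 := mul_eq_one_comm.mp hy
    have h3 := congrArg (y * ·) hne
    simp only [← mul_assoc, h1, one_mul, mul_zero] at h3
    rw [neg_smul, sub_neg_eq_add]
    exact h3
  · rw [← C.polar, ← C.polar]
    exact hKf _ hT₀K u v
  · rw [hmem]
    constructor
    · rintro ⟨u, v, rfl⟩
      exact ⟨u + v * (t / 2), v, by rw [hT₀]; module⟩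
    · rintro ⟨u, v, rfl⟩
      exact ⟨u - v * (t / 2), v, by rw [hT₀]; module⟩

namespace Root

variable (R : Root Q B K Θ ν)
include R

theorem nz : ν ≠ 0 := fun h => R.ns ⟨0, by rw [h, mul_zero]⟩

theorem free {v : ι → F} (hv : v ≠ 0) (c : F) : Θ *ᵥ v ≠ c • v := fun h => by
  have h1 := R.sq v
  rw [h, Matrix.mulVec_smul, h, smul_smul] at h1
  exact R.ns ⟨c, (smul_left_injective F hv h1).symm⟩

theorem sq_mul : Θ * Θ = ν • 1 := mat_ext fun v => by
  rw [← Matrix.mulVec_mulVec, R.sq, Matrix.smul_mulVec, Matrix.one_mulVec]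

theorem theta_mem : Θ ∈ K := (R.mem Θ).2 ⟨0, 1, by simp⟩

/-- Elements commuting with the generator up to a sign normalise the field. -/
theorem norm_of_sign {y : GL ι F} {ε : F} (hε : ε ≠ 0) (h : y.val * Θ = ε • (Θ * y.val)) :
    y ∈ Cfsg.Geo.subalgebraNormalizer K := by
  have key : ∀ u v : F, y.val * (u • 1 + v • Θ) * ((y⁻¹ : GL ι F) : Matrix ι ι F) = u • 1 + (v * ε) • Θ := by
    intro u v
    rw [mul_add, mul_smul_comm, mul_one, mul_smul_comm, h, add_mul, smul_mul_assoc, smul_mul_assoc,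
      smul_mul_assoc, Units.mul_inv, mul_assoc Θ, Units.mul_inv, mul_one, smul_smul]
  intro a
  constructor
  · intro ha
    obtain ⟨u, v, rfl⟩ := (R.mem a).1 ha
    exact (R.mem _).2 ⟨u, v * ε, key u v⟩
  · intro ha
    obtain ⟨u, v, huv⟩ := (R.mem _).1 ha
    refine (R.mem a).2 ⟨u, v / ε, ?_⟩
    have h' := key u (v / ε)
    rw [div_mul_cancel₀ v hε, ← huv] at h'
    exact ((Units.mul_right_inj y).1 ((Units.mul_left_inj y⁻¹).1 h')).symm

/-- Normalising elements commute with the generator up to a sign. -/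
theorem sign_of_norm [Nonempty ι] {y : GL ι F} (hy : y ∈ Cfsg.Geo.subalgebraNormalizer K) :
    y.val * Θ = Θ * y.val ∨ y.val * Θ = -(Θ * y.val) := by
  obtain ⟨a, b, hab⟩ := (R.mem _).1 ((hy Θ).1 R.theta_mem)
  have h1 : y.val * Θ = (a • 1 + b • Θ) * y.val := by
    rw [← hab, mul_assoc _ ((y⁻¹ : GL ι F) : Matrix ι ι F), Units.inv_mul, mul_one]
  have h3 : (a • 1 + b • Θ) * (a • 1 + b • Θ) = ν • (1 : Matrix ι ι F) := by
    rw [← hab]
    calc y.val * Θ * (y⁻¹ : GL ι F).val * (y.val * Θ * (y⁻¹ : GL ι F).val)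
        = y.val * Θ * ((y⁻¹ : GL ι F).val * y.val) * Θ * (y⁻¹ : GL ι F).val := by simp only [mul_assoc]
      _ = ν • 1 := by
          rw [Units.inv_mul, mul_one, mul_assoc _ Θ Θ, R.sq_mul, mul_smul_comm, mul_one, smul_mul_assoc,
            Units.mul_inv]
  simp only [add_mul, mul_add, smul_mul_assoc, mul_smul_comm, one_mul, mul_one, R.sq_mul] at h3
  obtain ⟨i⟩ := ‹Nonempty ι›
  have he : (Pi.single i (1 : F) : ι → F) ≠ 0 := by simp
  have h4 : (2 * a * b) • (Θ *ᵥ Pi.single i 1) = (ν - a * a - b * b * ν) • (Pi.single i (1 : F) : ι → F) := by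
    have h := congrArg (· *ᵥ (Pi.single i (1 : F) : ι → F)) h3
    simp only [Matrix.add_mulVec, Matrix.smul_mulVec, Matrix.one_mulVec, smul_smul] at h
    linear_combination (norm := module) h
  have hab0 : a = 0 ∨ b = 0 := by
    by_contra hc
    push Not at hc
    refine R.free he ((2 * a * b)⁻¹ * (ν - a * a - b * b * ν)) ?_
    rw [← smul_smul, ← h4, inv_smul_smul₀ (mul_ne_zero (mul_ne_zero R.two hc.1) hc.2)]
  have h5 : ν - a * a - b * b * ν = 0 := by
    refine (smul_eq_zero.1 ?_).resolve_right he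
    rw [← h4]
    rcases hab0 with h | h <;> simp [h]
  rcases hab0 with ha | hb
  · have hb2 : b * b = 1 := mul_right_cancel₀ R.nz (by rw [ha] at h5; linear_combination -h5)
    rw [ha, zero_smul, zero_add, smul_mul_assoc] at h1
    rcases mul_self_eq_one_iff.1 hb2 with rfl | rfl
    · left; rw [h1, one_smul]
    · right; rw [h1, neg_one_smul]
  · exact absurd ⟨a, by rw [hb] at h5; linear_combination h5⟩ R.ns

/-- Normalising elements of odd order commute with the generator. -/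
theorem comm_of_odd [Nonempty ι] {y : GL ι F} (hy : y ∈ Cfsg.Geo.subalgebraNormalizer K) {r : ℕ} (hr : Odd r)
    (hyr : y ^ r = 1) : y.val * Θ = Θ * y.val := by
  refine (R.sign_of_norm hy).resolve_right fun h => ?_
  have h1 : ∀ n : ℕ, (y ^ n).val * Θ = (-1 : F) ^ n • (Θ * (y ^ n).val) := fun n => by
    induction n with
    | zero => simp
    | succ n ih =>
      rw [pow_succ y, Units.val_mul, mul_assoc, h, mul_neg, ← mul_assoc, ih, pow_succ, smul_mul_assoc, mul_assoc,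
        mul_neg, mul_one, neg_smul]
  have h2 := h1 r
  rw [hyr, Units.val_one, one_mul, mul_one, hr.neg_one_pow, neg_one_smul] at h2
  obtain ⟨i⟩ := ‹Nonempty ι›
  have h3 := congrArg (· *ᵥ (Θ *ᵥ Pi.single i (1 : F))) h2
  simp only [R.sq, Matrix.neg_mulVec] at h3
  have h4 : (2 * ν) • (Pi.single i (1 : F) : ι → F) = 0 := by linear_combination (norm := module) h3
  simp [R.two, R.nz] at h4

/-- A map of Siegel type commutes with no generator. -/
theorem siegel_not_comm {u w z : ι → F} (hu0 : u ≠ 0) (hzw : B z w = 1) (hzu : B z u = 0) (Y : Matrix ι ι F)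
    (hY : ∀ v, Y *ᵥ v = v + (B v w • u - B v u • w)) : Y * Θ ≠ Θ * Y := by
  intro h
  have hc : ∀ v, B (Θ *ᵥ v) w • u - B (Θ *ᵥ v) u • w = Θ *ᵥ (B v w • u - B v u • w) := fun v => by
    have h1 := congrArg (· *ᵥ v) h
    simp only [← Matrix.mulVec_mulVec, hY, Matrix.mulVec_add] at h1
    exact add_left_cancel h1
  have hu : Θ *ᵥ u = B (Θ *ᵥ z) w • u - B (Θ *ᵥ z) u • w := by
    rw [hc, hzw, hzu, one_smul, zero_smul, sub_zero]
  obtain ⟨a, b, hab⟩ : ∃ a b : F, Θ *ᵥ u = a • u + b • w := ⟨_, -B (Θ *ᵥ z) u, by rw [hu]; module⟩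
  have hb : b ≠ 0 := fun h0 => R.free hu0 a (by rw [hab, h0, zero_smul, add_zero])
  have hw : Θ *ᵥ w = ((ν - a * a) / b) • u + (-a) • w := by
    have h1 := R.sq u
    rw [hab, Matrix.mulVec_add, Matrix.mulVec_smul, Matrix.mulVec_smul, hab] at h1
    have h3 : b • (Θ *ᵥ w) = (ν - a * a) • u - (a * b) • w := by linear_combination (norm := module) h1
    rw [← inv_smul_smul₀ hb (Θ *ᵥ w), h3, smul_sub, smul_smul, smul_smul, div_eq_inv_mul,
      show b⁻¹ * (a * b) = a by rw [mul_comm, mul_assoc, mul_inv_cancel₀ hb, mul_one], neg_smul, sub_eq_add_neg]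
  have hz : ∀ v, (2 : F) • (B (Θ *ᵥ v) w • u - B (Θ *ᵥ v) u • w) = 0 := fun v => by
    rw [two_smul]
    nth_rw 2 [hc]
    simp only [R.sa, hw, hab, map_add, map_smul, Matrix.mulVec_sub, Matrix.mulVec_smul, smul_eq_mul]
    module
  have h0 := (smul_eq_zero.1 (hz (ν⁻¹ • (Θ *ᵥ z)))).resolve_left R.two
  rw [Matrix.mulVec_smul, R.sq, inv_smul_smul₀ R.nz, hzw, hzu, one_smul, zero_smul, sub_zero] at h0
  exact hu0 h0

/-- Root elements normalise no conjugate. -/
theorem p_bad [Fintype F] (p : ℕ) [Fact p.Prime] [CharP F p] (hodd : Odd p) (hn : 3 ≤ Fintype.card ι)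
    {u w z : ι → F} (hu : Q u = 0) (hw : Q w = 0) (huw : B u w = 0) (hu0 : u ≠ 0) (hzw : B z w = 1) (hzu : B z u = 0) :
    ∃ x ∈ Cfsg.Geo.omegaGL Q, (∃ c : F, ((x ^ p : GL ι F) : Matrix ι ι F) = c • 1) ∧ (∀ c : F, x.val ≠ c • 1) ∧
      ∀ g ∈ Cfsg.Geo.omegaGL Q, g⁻¹ * x * g ∉ Cfsg.Geo.subalgebraNormalizer K := by
  classical
  have C := R.space
  let T : (ι → F) →ₗ[F] (ι → F) := (B.flip w).smulRight u - (B.flip u).smulRight w
  let X : Matrix ι ι F := 1 + LinearMap.toMatrix' T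
  have hact : ∀ v, X *ᵥ v = v + (B v w • u - B v u • w) := fun v => by
    rw [show X = 1 + LinearMap.toMatrix' T from rfl, Matrix.add_mulVec, Matrix.one_mulVec,
      LinearMap.toMatrix'_mulVec]
    rfl
  haveI : Nonempty ι := Fintype.card_pos_iff.1 (by omega)
  haveI : CharP (Matrix ι ι F) p := inferInstance
  have hNN : (X - 1) * (X - 1) = 0 := mat_ext fun v => by
    rw [← Matrix.mulVec_mulVec]
    simp [Matrix.sub_mulVec, hact, C.self_zero hu, C.self_zero hw, huw, C.symm w u]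
  have hXp : X ^ p = 1 := by
    have h1 : (X - 1) ^ p = 0 := by
      obtain ⟨k, hk⟩ : ∃ k, p = 2 + k := ⟨p - 2, by have := (Fact.out : p.Prime).two_le; omega⟩
      rw [hk, pow_add, pow_two, hNN, zero_mul]
    rw [sub_pow_char_of_commute (R := Matrix ι ι F) p (Commute.one_right _), one_pow, sub_eq_zero] at h1
    exact h1
  let x : GL ι F := Units.ofPowEqOne X p hXp (Fact.out : p.Prime).ne_zero
  have hxp : x ^ p = 1 := Units.pow_ofPowEqOne _ _
  have hxi : x ∈ Cfsg.isometryGroup F Q := mem_iso.2 fun v => by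
    show Q (X *ᵥ v) = Q v
    rw [hact, sub_eq_add_neg, ← neg_smul, C.add, C.smul_add, hu, hw, huw]
    simp only [map_add, map_smul, smul_eq_mul]
    ring
  refine ⟨x, IsoFix.mem_omegaGL_of_odd C (by omega) (Or.inl (card_ne_two R.two)) hodd ⟨x, hxi⟩
    (Subtype.ext hxp), ⟨1, by rw [hxp, Units.val_one, one_smul]⟩, fun c hc => ?_, fun g hg hgx => ?_⟩
  · have h1 := hact z
    rw [show X = c • 1 from hc, Matrix.smul_mulVec, Matrix.one_mulVec, hzw, hzu, one_smul, zero_smul, sub_zero] at h1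
    have h3 : u = (c - 1) • z := by rw [sub_smul, one_smul, h1]; abel
    have h4 : B u w = c - 1 := by rw [h3, map_smul, LinearMap.smul_apply, hzw, smul_eq_mul, mul_one]
    rw [huw] at h4
    exact hu0 (by rw [h3, ← h4, zero_smul])
  · obtain ⟨⟨g, hgi⟩, -, rfl⟩ := hg
    obtain ⟨y, hy⟩ : ∃ y, y = g⁻¹ * x * g := ⟨_, rfl⟩
    change g⁻¹ * x * g ∈ _ at hgx
    rw [← hy] at hgx
    have hyp : y ^ p = 1 := by
      rw [hy, show g⁻¹ * x * g = g⁻¹ * x * (g⁻¹)⁻¹ by rw [inv_inv], conj_pow, hxp, mul_one, mul_inv_cancel]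
    have hB : ∀ a b, B (g.val *ᵥ a) b = B a ((g⁻¹ : GL ι F).val *ᵥ b) := C.B_act_left hgi
    refine R.siegel_not_comm (act_ne_zero (g := g⁻¹) hu0) (z := (g⁻¹ : GL ι F).val *ᵥ z)
      (w := (g⁻¹ : GL ι F).val *ᵥ w) ?_ ?_ y.val (fun v => ?_) (R.comm_of_odd hgx hodd hyp)
    · rw [C.B_act (inv_mem hgi), hzw]
    · rw [C.B_act (inv_mem hgi), hzu]
    · rw [hy, mul_act, mul_act, show x.val = X from rfl, hact, hB, hB, Matrix.mulVec_add, inv_act,
        Matrix.mulVec_sub, Matrix.mulVec_smul, Matrix.mulVec_smul]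

end Root

/-- Eigenvectors for a simple eigenvalue and its inverse pair. -/
theorem pairing {L : Type u} [Field L] {V : Type*} [AddCommGroup V] [Module L V] [FiniteDimensional L V]
    (B : LinearMap.BilinForm L V) (hB : ∀ w, (∀ v, B w v = 0) → w = 0) (X : End L V)
    (hX : ∀ u v, B (X u) (X v) = B u v) {lam mu : L} (hlm : lam * mu = 1)
    {w w' : V} (hw : X w = lam • w) (hw0 : w ≠ 0) (hw' : X w' = mu • w') (hw'0 : w' ≠ 0)
    (hdim : finrank L (X.maxGenEigenspace mu) ≤ 1) : B w w' ≠ 0 := by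
  intro hww
  set S := X - mu • (1 : End L V) with hS
  have horth : ∀ v, B w (S v) = 0 := fun v => by
    have h6 := hX w v
    rw [hw, map_smul, LinearMap.smul_apply, smul_eq_mul] at h6
    simp only [S, LinearMap.sub_apply, LinearMap.smul_apply, End.one_apply, map_sub, map_smul, smul_eq_mul]
    linear_combination mu * h6 - B w (X v) * hlm
  have hSw' : S w' = 0 := by
    simp only [S, LinearMap.sub_apply, LinearMap.smul_apply, End.one_apply, hw', sub_self]
  have hmem : w' ∈ X.maxGenEigenspace mu := (Module.End.mem_maxGenEigenspace _ _ _).2 ⟨1, by rw [pow_one]; exact hSw'⟩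
  have hnot : w' ∉ LinearMap.range S := by
    rintro ⟨v, hv⟩
    have hvm : v ∈ X.maxGenEigenspace mu := (Module.End.mem_maxGenEigenspace _ _ _).2 ⟨2, by
      rw [pow_two, End.mul_apply, ← hS, hv, hSw']⟩
    obtain ⟨c, hc⟩ := finrank_le_one_iff.1 hdim
    obtain ⟨a, ha⟩ := hc ⟨w', hmem⟩
    obtain ⟨b, hb⟩ := hc ⟨v, hvm⟩
    have ha' : a • (c : V) = w' := congrArg Subtype.val ha
    have hb' : b • (c : V) = v := congrArg Subtype.val hb
    have hSc : S (c : V) = 0 := by
      have h := hSw'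
      rw [← ha', map_smul, smul_eq_zero] at h
      exact h.resolve_left fun h => hw'0 (by rw [← ha', h, zero_smul])
    exact hw'0 (by rw [← hv, ← hb', map_smul, hSc, smul_zero])
  have hker : finrank L (LinearMap.ker S) ≤ 1 := by
    refine (Submodule.finrank_mono fun v hv => ?_).trans hdim
    exact (Module.End.mem_maxGenEigenspace _ _ _).2 ⟨1, by rw [pow_one]; exact hv⟩
  have htop : LinearMap.range S ⊔ Submodule.span L {w'} = ⊤ := by
    refine Submodule.eq_top_of_finrank_eq (le_antisymm (Submodule.finrank_le _) ?_)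
    have hlt : LinearMap.range S < LinearMap.range S ⊔ Submodule.span L {w'} := by
      refine lt_of_le_of_ne le_sup_left fun h => hnot ?_
      rw [h]
      exact Submodule.mem_sup_right (Submodule.mem_span_singleton_self _)
    have := Submodule.finrank_lt_finrank_of_lt hlt
    have := LinearMap.finrank_range_add_finrank_ker S
    omega
  refine hw0 (hB w fun v => ?_)
  obtain ⟨_, ⟨u, rfl⟩, _, hb, rfl⟩ := Submodule.mem_sup.1 (htop ▸ Submodule.mem_top : v ∈ LinearMap.range S ⊔ Submodule.span L {w'})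
  obtain ⟨c, rfl⟩ := Submodule.mem_span_singleton.1 hb
  rw [map_add, horth, map_smul, hww, smul_zero, add_zero]

/-- Odd-order elements with a badly placed simple eigenvalue do not commute with the generator. -/
theorem Root.no_simple (R : Root Q B K Θ ν) [Fintype F] (p : ℕ) [Fact p.Prime] [CharP F p] {L : Type u} [Field L]
    [Algebra F L] [IsAlgClosed L] {r : ℕ} [Fact r.Prime] {ζ : L} (hζ : IsPrimitiveRoot ζ r) {y : GL ι F}
    (hcm : y.val * Θ = Θ * y.val) (hyi : y ∈ Cfsg.isometryGroup F Q) {m : ZMod r → ℕ}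
    (hm : y.val.charpoly.map (algebraMap F L) = Pm ζ m) {j : ZMod r} (hj : m j = 1) {t : ℕ} (htodd : Odd t)
    (ht : (Fintype.card F : ZMod r) ^ t = 1 ∨ ((Fintype.card F : ZMod r) ^ t = -1 ∧ m (-j) = 1)) : False := by
  classical
  set q := Fintype.card F with hq
  set φ := algebraMap F L
  haveI : CharP L p := charP_of_injective_algebraMap φ.injective p
  obtain ⟨f, -, hf⟩ := FiniteField.card F p
  let fr : L →+* L := iterateFrobenius L p f
  have hfr : ∀ x : L, fr x = x ^ q := fun x => by rw [hq, hf]; exact iterateFrobenius_def p f x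
  have hfix : ∀ a : F, fr (φ a) = φ a := fun a => by rw [hfr, ← map_pow, hq, FiniteField.pow_card]
  set Ym : Matrix ι ι L := y.val.map φ with hYm
  set Θm : Matrix ι ι L := Θ.map φ with hΘm
  set T : End L (ι → L) := Matrix.toLin' Ym with hTdef
  have hT : ∀ v, T v = Ym *ᵥ v := fun v => Matrix.toLin'_apply _ _
  have hdim : ∀ x, finrank L (T.maxGenEigenspace (zp ζ x)) = m x := fun x => by
    rw [LinearMap.finrank_maxGenEigenspace_eq, Matrix.charpoly_toLin', hYm, Matrix.charpoly_map, hm, count_roots_Pm hζ]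
  obtain ⟨w, hw, hw0⟩ : ∃ w, Ym *ᵥ w = zp ζ j • w ∧ w ≠ 0 := by
    have hev : T.HasEigenvalue (zp ζ j) := (Module.End.hasEigenvalue_iff_isRoot_charpoly _ _).2 (by
      rw [Matrix.charpoly_toLin', hYm, Matrix.charpoly_map, hm, ← rootMultiplicity_pos (Monic.ne_zero (hm ▸
        (Matrix.charpoly_monic _).map φ)), count_roots_Pm hζ, hj]
      exact one_pos)
    obtain ⟨w, hw⟩ := hev.exists_hasEigenvector
    exact ⟨w, by rw [← hT]; exact Module.End.mem_eigenspace_iff.1 hw.1, hw.2⟩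
  have hwgen : w ∈ T.maxGenEigenspace (zp ζ j) := (Module.End.mem_maxGenEigenspace _ _ _).2 ⟨1, by
    rw [pow_one, LinearMap.sub_apply, LinearMap.smul_apply, End.one_apply, hT, hw, sub_self]⟩
  have heig : ∀ v, Ym *ᵥ v = zp ζ j • v → ∃ c : L, v = c • w := fun v hv => by
    have h2 : v ∈ T.maxGenEigenspace (zp ζ j) := (Module.End.mem_maxGenEigenspace _ _ _).2 ⟨1, by
      rw [pow_one, LinearMap.sub_apply, LinearMap.smul_apply, End.one_apply, hT, hv, sub_self]⟩
    obtain ⟨c, hc⟩ := (finrank_eq_one_iff_of_nonzero' (⟨w, hwgen⟩ : T.maxGenEigenspace (zp ζ j))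
      (fun h => hw0 (congrArg Subtype.val h))).1 ((hdim j).trans hj) ⟨v, h2⟩
    exact ⟨c, (congrArg Subtype.val hc).symm⟩
  have hcm' : Ym * Θm = Θm * Ym := by rw [hYm, hΘm, ← Matrix.map_mul, hcm, Matrix.map_mul]
  obtain ⟨s, hs⟩ := heig (Θm *ᵥ w) (by
    rw [Matrix.mulVec_mulVec, hcm', ← Matrix.mulVec_mulVec, hw, Matrix.mulVec_smul])
  have hss : s * s = φ ν := by
    refine smul_left_injective L hw0 ?_
    show (s * s) • w = φ ν • w
    rw [← smul_smul, ← hs, ← Matrix.mulVec_smul, ← hs, Matrix.mulVec_mulVec, hΘm, ← Matrix.map_mul, R.sq_mul,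
      Matrix.map_smul' φ ν _ (map_mul φ), Matrix.map_one φ (map_zero φ) (map_one φ), Matrix.smul_mulVec, Matrix.one_mulVec]
  have hs0 : s ≠ 0 := fun h => R.nz (φ.injective (by rw [← hss, h, mul_zero, map_zero]))
  have hsq : s ^ q = -s := by
    rcases sq_eq_sq_iff_eq_or_eq_neg.1 (show (s ^ q) ^ 2 = s ^ 2 by
      rw [← pow_mul, mul_comm, pow_mul, pow_two, hss, ← map_pow, hq, FiniteField.pow_card]) with h | h
    · obtain ⟨a, ha⟩ := SelfAdj.mem_of_pow_card h
      exact absurd ⟨a, φ.injective (by rw [map_mul, ha, hss])⟩ R.ns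
    · exact h
  let fv : (ι → L) → (ι → L) := fun v a => fr (v a)
  have hfv : ∀ (A : Matrix ι ι F) v, fv (A.map φ *ᵥ v) = A.map φ *ᵥ fv v := fun A v => funext fun a => by
    simp [fv, Matrix.mulVec, dotProduct, map_sum, map_mul, hfix]
  have hfs : ∀ (c : L) v, fv (c • v) = fr c • fv v := fun c v => funext fun a => by simp [fv]
  have hiter : ∀ a : ℕ, Ym *ᵥ (fv^[a] w) = zp ζ (((q : ℕ) : ZMod r) ^ a * j) • fv^[a] w ∧
      Θm *ᵥ (fv^[a] w) = ((-1 : L) ^ a * s) • fv^[a] w ∧ fv^[a] w ≠ 0 := by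
    intro a
    induction a with
    | zero => simp [hw, hs, hw0]
    | succ a ih =>
      obtain ⟨h1, h3, h4⟩ := ih
      rw [Function.iterate_succ_apply']
      refine ⟨?_, ?_, fun h => h4 (funext fun b => (map_eq_zero fr).1 (congrFun h b))⟩
      · rw [hYm, ← hfv, ← hYm, h1, hfs, hfr, zp_pow hζ, pow_succ', mul_assoc]
      · rw [hΘm, ← hfv, ← hΘm, h3, hfs, map_mul, map_pow, map_neg, map_one, hfr s, hsq, pow_succ, mul_assoc,
          neg_one_mul]
  obtain ⟨h1, h3, hne⟩ := hiter t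
  rw [htodd.neg_one_pow, neg_one_mul] at h3
  have h2L : (2 : L) ≠ 0 := fun h => R.two (φ.injective (by rw [map_ofNat, h, map_zero]))
  rcases ht with ht | ⟨ht, hmj⟩
  · rw [ht, one_mul] at h1
    obtain ⟨c, hc⟩ := heig _ h1
    have hc0 : c ≠ 0 := fun h => hne (by rw [hc, h, zero_smul])
    rw [hc, Matrix.mulVec_smul, hs, smul_smul, smul_smul] at h3
    have h5 : (2 : L) * (c * s) = 0 := by linear_combination smul_left_injective L hw0 h3
    simp [h2L, hc0, hs0] at h5
  · rw [ht, neg_one_mul] at h1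
    set M := LinearMap.BilinForm.toMatrix' B
    have hM : ∀ u v, u ⬝ᵥ (M *ᵥ v) = B u v := fun u v => by
      rw [← Matrix.toBilin'_apply', Matrix.toBilin'_toMatrix']
    let BL : LinearMap.BilinForm L (ι → L) := Matrix.toBilin' (M.map φ)
    have hMd : M.det ≠ 0 := fun h => by
      obtain ⟨v, hv0, hv⟩ := Matrix.exists_mulVec_eq_zero_iff.2 h
      exact hv0 (R.space.nondeg v fun u => by rw [← hM, hv, dotProduct_zero])
    have key : ∀ A A' : Matrix ι ι F, (∀ u v, B (A *ᵥ u) v = B u (A' *ᵥ v)) → Aᵀ * M = M * A' := fun A A' h =>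
      mat_ext fun v => dotProduct_eq _ _ fun u => by
        rw [dotProduct_comm, dotProduct_comm _ u, ← Matrix.mulVec_mulVec, ← Matrix.mulVec_mulVec,
          Matrix.dotProduct_mulVec, Matrix.vecMul_transpose, hM, hM, h]
    have keyL : ∀ A A' : Matrix ι ι F, (∀ u v, B (A *ᵥ u) v = B u (A' *ᵥ v)) → ∀ u v,
        BL (A.map φ *ᵥ u) v = BL u (A'.map φ *ᵥ v) := fun A A' h u v => by
      simp only [BL, Matrix.toBilin'_apply']
      rw [Matrix.mulVec_mulVec v, ← Matrix.map_mul, ← key A A' h, Matrix.map_mul, ← Matrix.mulVec_mulVec,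
        Matrix.dotProduct_mulVec u, Matrix.transpose_map, Matrix.vecMul_transpose]
    have hBL : ∀ u, (∀ v, BL u v = 0) → u = 0 := fun u hu => by
      have h : (M.map φ).det ≠ 0 := by
        rw [← RingHom.mapMatrix_apply, ← RingHom.map_det]; exact (map_ne_zero φ).2 hMd
      exact (Matrix.Nondegenerate.toBilin' (Matrix.nondegenerate_of_det_ne_zero h)).1 u hu
    have hpair := pairing BL hBL T (fun u v => by
        rw [hT, hT, hYm, keyL y.val (y⁻¹ : GL ι F).val (R.space.B_act_left hyi), Matrix.mulVec_mulVec,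
          ← Matrix.map_mul, Units.inv_mul, Matrix.map_one φ (map_zero φ) (map_one φ), Matrix.one_mulVec])
      (show zp ζ j * zp ζ (-j) = 1 by rw [← zp_add hζ, add_neg_cancel, zp_zero]) (by rw [hT]; exact hw) hw0
      (by rw [hT]; exact h1) hne ((hdim (-j)).trans hmj).le
    refine hpair ?_
    have h6 := keyL Θ Θ R.sa w (fv^[t] w)
    rw [← hΘm, hs, h3, map_smul, map_smul, LinearMap.smul_apply, smul_eq_mul, smul_eq_mul] at h6
    have h5 : (2 : L) * s * BL w (fv^[t] w) = 0 := by linear_combination h6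
    exact (mul_eq_zero.1 h5).resolve_left (mul_ne_zero h2L hs0)

/-- Semisimple elements with a simple eigenvalue. -/
theorem Root.semi_bad (R : Root Q B K Θ ν) [Fintype F] (p : ℕ) [Fact p.Prime] [CharP F p] {r : ℕ} [Fact r.Prime]
    (hr2 : r ≠ 2) (hrp : r ≠ p) {n : ℕ} (hn : Fintype.card ι = n) (hn2 : 2 ≤ n) (hne : Even n) {i c : ℕ}
    (hi : i = orderOf (Fintype.card F : ZMod r)) (hc : c = if Even i then i else 2 * i) (hco : Odd (c / 2))
    (hcd : c ≤ n)
    (hreal : ∀ {L : Type u} [Field L] [Algebra F L] [IsAlgClosed L] {ζ : L}, IsPrimitiveRoot ζ r →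
      ∀ (uq : (ZMod r)ˣ), (uq : ZMod r) = (Fintype.card F : ZMod r) → orderOf uq = i →
      ∀ (w : (ZMod r)ˣ), (∃ k : ℕ, uq = w ^ k) → (∃ k : ℕ, (-1 : (ZMod r)ˣ) = w ^ k) →
      ∀ f : ZMod r → ℕ, Inv w n f → f 0 = n - c →
        ∃ g : ↥(Cfsg.isometryGroup F Q), g ^ r = 1 ∧
          ((g : GL ι F) : Matrix ι ι F).charpoly.map (algebraMap F L) = Pm ζ f) :
    ∃ x ∈ Cfsg.Geo.omegaGL Q, (∃ c : F, ((x ^ r : GL ι F) : Matrix ι ι F) = c • 1) ∧ (∀ c : F, x.val ≠ c • 1) ∧
      ∀ g ∈ Cfsg.Geo.omegaGL Q, g⁻¹ * x * g ∉ Cfsg.Geo.subalgebraNormalizer K := by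
  classical
  obtain ⟨hr⟩ := (inferInstance : Fact r.Prime)
  haveI : Nonempty ι := Fintype.card_pos_iff.1 (by omega)
  let L := AlgebraicClosure F
  haveI : CharP L p := charP_of_injective_algebraMap (algebraMap F L).injective p
  have hrL : (r : L) ≠ 0 := fun h =>
    hrp ((Nat.prime_dvd_prime_iff_eq Fact.out hr).mp ((CharP.cast_eq_zero_iff L p r).mp h)).symm
  haveI : NeZero (r : L) := ⟨hrL⟩
  obtain ⟨ζ, hζ⟩ := HasEnoughRootsOfUnity.exists_primitiveRoot L r
  have hrq : ¬ r ∣ Fintype.card F := fun h => by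
    obtain ⟨k, -, hk⟩ := FiniteField.card F p
    rw [hk] at h
    exact hrp ((Nat.prime_dvd_prime_iff_eq hr Fact.out).mp (hr.dvd_of_dvd_pow h))
  let uq : (ZMod r)ˣ := Units.mk0 _ (fun h => hrq ((ZMod.natCast_eq_zero_iff _ _).1 h) : (Fintype.card F : ZMod r) ≠ 0)
  have huq : (uq : ZMod r) = (Fintype.card F : ZMod r) := rfl
  have hiu : orderOf uq = i := by rw [hi, ← orderOf_units, huq]
  obtain ⟨w, -, hwq, hwn, hwo⟩ := exists_gen hr2 uq
  rw [hiu] at hwo
  have hwc : orderOf w = c := by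
    rw [hwo, hc]
    by_cases he : Even i
    · rw [if_pos he, if_neg (Nat.not_odd_iff_even.mpr he)]
    · rw [if_neg he, if_pos (Nat.not_even_iff_odd.mp he)]
  obtain ⟨my, hmy, hmy0, hmy1⟩ := Cfsg.Agent.S5955.exists_inv_fixed w (n - c) 1
  rw [one_mul, hwc, Nat.sub_add_cancel hcd] at hmy
  have hc0 : 0 < c := hwc ▸ orderOf_pos w
  obtain ⟨j, hj⟩ : ∃ j, my j = 1 := by
    by_contra h
    push Not at h
    have h1 := hmy.1
    rw [Finset.sum_eq_single (0 : ZMod r) (fun x _ hx => (hmy1 x hx).resolve_right (h x)) (by simp), hmy0] at h1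
    omega
  obtain ⟨g₀, hg₀, hgp⟩ := hreal hζ uq huq hiu w hwq hwn my hmy hmy0
  have hgr : (g₀ : GL ι F) ^ r = 1 := by rw [← Subgroup.coe_pow, hg₀, Subgroup.coe_one]
  refine ⟨(g₀ : GL ι F), IsoFix.mem_omegaGL_of_odd R.space (by omega) (Or.inl (card_ne_two R.two))
    (hr.odd_of_ne_two hr2) g₀ hg₀, ⟨1, by rw [hgr, Units.val_one, one_smul]⟩, fun z hz => ?_, fun g hg hgx => ?_⟩
  · obtain ⟨v, hv⟩ := Cfsg.Lib.H3.exists_nonsing_vec R.space (by omega)
    have h1 := mem_iso.1 g₀.2 v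
    rw [hz, Matrix.smul_mulVec, Matrix.one_mulVec, R.space.smul] at h1
    have hz2 : z ^ 2 = 1 := mul_right_cancel₀ hv (by rw [h1, one_mul])
    obtain ⟨e, he⟩ := hr.odd_of_ne_two hr2
    have h3 : z ^ r = 1 := by
      have h4 := congrArg Units.val hgr
      rw [Units.val_pow_eq_pow_val, hz, _root_.smul_pow, one_pow, Units.val_one] at h4
      obtain ⟨a⟩ := ‹Nonempty ι›
      simpa using congrFun (congrFun h4 a) a
    rw [he, pow_succ, pow_mul, hz2, one_pow, one_mul] at h3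
    have h4 := hgp
    rw [hz, h3, one_smul, Matrix.charpoly_one, Polynomial.map_pow, Polynomial.map_sub, map_X, Polynomial.map_one,
      ← Pm_single (r := r) ζ] at h4
    have h5 := congrFun (Pm_inj hζ h4) 0
    rw [hmy0, Pi.single_eq_same, hn] at h5
    omega
  · obtain ⟨⟨g, hgi⟩, -, rfl⟩ := hg
    change g⁻¹ * (g₀ : GL ι F) * g ∈ _ at hgx
    set y := g⁻¹ * (g₀ : GL ι F) * g
    have hyr : y ^ r = 1 := by
      rw [show y = g⁻¹ * (g₀ : GL ι F) * (g⁻¹)⁻¹ by rw [inv_inv], conj_pow, hgr, mul_one, mul_inv_cancel]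
    have hm : y.val.charpoly.map (algebraMap F L) = Pm ζ my := by
      rw [← hgp]
      congr 1
      show ((g⁻¹ : GL ι F).val * (g₀ : GL ι F).val * g.val).charpoly = _
      rw [Matrix.coe_units_inv, Matrix.charpoly_units_conj']
    refine R.no_simple p hζ (R.comm_of_odd hgx (hr.odd_of_ne_two hr2) hyr)
      (mul_mem (mul_mem (inv_mem hgi) g₀.2) hgi) hm hj hco ?_
    have hqi : (Fintype.card F : ZMod r) ^ i = 1 := by rw [hi]; exact pow_orderOf_eq_one _
    rw [hc]
    by_cases he : Even i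
    · rw [if_pos he]
      obtain ⟨e, rfl⟩ := he
      refine Or.inr ⟨?_, ?_⟩
      · rw [show (e + e) / 2 = e by omega]
        rw [pow_add] at hqi
        refine (mul_self_eq_one_iff.1 hqi).resolve_left fun h1 => ?_
        have h0 : 0 < e + e := hiu ▸ orderOf_pos uq
        have := Nat.le_of_dvd (by omega) (hi ▸ orderOf_dvd_of_pow_eq_one h1)
        omega
      · obtain ⟨a, ha⟩ := hwn
        rw [show -j = (w : ZMod r) ^ a * j by rw [← Units.val_pow_eq_pow_val, ← ha]; simp,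
          Cfsg.Agent.Lib.Linear.PrimeClasses.inv_pow hmy, hj]
    · rw [if_neg he, show 2 * i / 2 = i by omega]
      exact Or.inl hqi

end Cfsg.Lib.Linear.SkewField.OrthRoot
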