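import Cfsg.Agent.Lib.Linear.SkewField.OrthRootFrame
import Cfsg.Agent.Lib.Linear.OrthSpinor
import Cfsg.Agent.Lib.Linear.OrthOrderStd

/-!
# Orders of orthogonal groups over a quadratic extension inside orthogonal groups
-/

set_option autoImplicit false

universe u

namespace Cfsg.Lib.Linear.SkewField.OrthRoot

open Module Cfsg.Lib.Linear Cfsg.Lib.Linear.Orth
open scoped Matrix

variable {F : Type u} [Field F] [Fintype F] {ι : Type} [Fintype ι] [DecidableEq ι]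
  {Q : (ι → F) → F} {B : LinearMap.BilinForm F (ι → F)}

/-- A prime dividing the index in `Ω` divides the index in the isometry group. -/
theorem dvd_index (C : Space Q B) (h2 : (2 : F) ≠ 0) (hn : 2 ≤ Fintype.card ι) (N : Subgroup (GL ι F))
    {r : ℕ} [Fact r.Prime] (hr2 : r ≠ 2) (h : r ∣ N.relIndex (Cfsg.Geo.omegaGL Q)) :
    r ∣ (N.comap (Cfsg.isometryGroup F Q).subtype).index := by
  set N' := N.comap (Cfsg.isometryGroup F Q).subtype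
  haveI : (commutator ↥(Cfsg.isometryGroup F Q)).Normal := Subgroup.commutator_normal _ _
  set Om := commutator ↥(Cfsg.isometryGroup F Q)
  have h1 : N.relIndex (Cfsg.Geo.omegaGL Q) = N'.relIndex Om := (Subgroup.relIndex_comap N _ Om).symm
  have e1 := Subgroup.relIndex_mul_index (show N' ⊓ Om ≤ Om from inf_le_right)
  have e2 := Subgroup.relIndex_mul_index (show N' ⊓ Om ≤ N' from inf_le_left)
  rw [Subgroup.inf_relIndex_right, (omega_odd C h2 hn).2.1] at e1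
  rw [Subgroup.inf_relIndex_left] at e2
  have h4 : Om.relIndex N' ∣ 4 := (omega_odd C h2 hn).2.1 ▸ Subgroup.relIndex_dvd_index_of_normal Om N'
  have h5 : r ∣ Om.relIndex N' * N'.index := by
    rw [e2, ← e1, ← h1]; exact Dvd.dvd.mul_right h 4
  refine ((Fact.out : r.Prime).dvd_mul.1 h5).resolve_left fun h6 => hr2 ?_
  exact (Nat.prime_dvd_prime_iff_eq Fact.out Nat.prime_two).1
    ((Fact.out : r.Prime).dvd_of_dvd_pow (show r ∣ 2 ^ 2 from h6.trans h4))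

theorem card_zero (C : Space Q B) (h2 : (2 : F) ≠ 0) (hn : 2 ≤ Fintype.card ι) (N : Subgroup (GL ι F))
    {r : ℕ} [Fact r.Prime] (hr2 : r ≠ 2) (h : r ∣ N.relIndex (Cfsg.Geo.omegaGL Q)) :
    (((Nat.card ↥(Cfsg.isometryGroup F Q) : ℕ) : ℤ) : ZMod r) = 0 := by
  rw [Int.cast_natCast, ZMod.natCast_eq_zero_iff]
  exact (dvd_index C h2 hn N hr2 h).trans (Subgroup.index_dvd_card _)

/-- An embedded group containing the `r`-part of the order leaves an index prime to `r`. -/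
theorem index_prime_to (C : Space Q B) (h2 : (2 : F) ≠ 0) (hn : 2 ≤ Fintype.card ι) (N : Subgroup (GL ι F))
    {r : ℕ} [Fact r.Prime] (hr2 : r ≠ 2) (hrq : (Fintype.card F : ZMod r) ≠ 0) {X : ℕ} (hX0 : X ≠ 0)
    (hX : X ∣ Nat.card ↥(N.comap (Cfsg.isometryGroup F Q).subtype)) {a : ℕ} {Y : ℤ} (hY : ((Y : ℤ) : ZMod r) ≠ 0)
    (he : (Nat.card ↥(Cfsg.isometryGroup F Q) : ℤ) * (Fintype.card F : ℤ) ^ a = (X : ℤ) * Y) :
    ¬ r ∣ N.relIndex (Cfsg.Geo.omegaGL Q) := fun h => by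
  have h1 := dvd_index C h2 hn N hr2 h
  obtain ⟨z, hz⟩ := hX
  have h3 := (N.comap (Cfsg.isometryGroup F Q).subtype).card_mul_index
  generalize (N.comap (Cfsg.isometryGroup F Q).subtype).index = idx at h1 h3
  rw [hz] at h3
  rw [← h3] at he
  have h4 : Y = (z : ℤ) * idx * (Fintype.card F : ℤ) ^ a :=
    mul_left_cancel₀ (Int.natCast_ne_zero.2 hX0) (by rw [← he]; push_cast; ring)
  refine hY ?_
  rw [h4]; push_cast
  rw [(ZMod.natCast_eq_zero_iff idx r).2 h1]; ring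

theorem card_ext {ν : F} [Fact (∀ r : F, r ^ 2 ≠ ν + 0 * r)] :
    (Nat.card (Ext ν) : ℤ) = (Fintype.card F : ℤ) ^ 2 := by
  rw [Module.natCard_eq_pow_finrank (K := F), QuadraticAlgebra.finrank_eq_two, Nat.card_eq_fintype_card]
  push_cast; rfl

section Numbers

theorem prod_pairs {M : Type*} [CommMonoid M] (f : ℕ → M) : ∀ e : ℕ,
    ∏ i ∈ Finset.range (2 * e), f i = ∏ s ∈ Finset.range e, f (2 * s) * f (2 * s + 1)
  | 0 => by simp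
  | e + 1 => by
    rw [show 2 * (e + 1) = 2 * e + 1 + 1 by ring, Finset.prod_range_succ, Finset.prod_range_succ, prod_pairs f e,
      Finset.prod_range_succ, mul_assoc]

variable {q r : ℕ} [Fact r.Prime]

theorem pow_ne_one (h4 : 4 ∣ orderOf (q : ZMod r)) {n : ℕ} (hn : Odd n) : (q : ZMod r) ^ (2 * n) ≠ 1 := fun h => by
  obtain ⟨k, hk⟩ := h4.trans (orderOf_dvd_of_pow_eq_one h)
  obtain ⟨j, rfl⟩ := hn
  omega

theorem sq_sub_ne (h4 : 4 ∣ orderOf (q : ZMod r)) {n : ℕ} (hn : Odd n) : (q : ZMod r) ^ (2 * n) - 1 ≠ 0 :=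
  sub_ne_zero.2 (pow_ne_one h4 hn)

theorem sub_ne (h4 : 4 ∣ orderOf (q : ZMod r)) {n : ℕ} (hn : Odd n) : (q : ZMod r) ^ n - 1 ≠ 0 := fun h =>
  pow_ne_one h4 hn (by rw [mul_comm, pow_mul, sub_eq_zero.1 h, one_pow])

theorem add_ne (h4 : 4 ∣ orderOf (q : ZMod r)) {n : ℕ} (hn : Odd n) : (q : ZMod r) ^ n + 1 ≠ 0 := fun h =>
  pow_ne_one h4 hn (by rw [mul_comm, pow_mul, eq_neg_of_add_eq_zero_left h, neg_one_sq])

theorem arith_plus_even (hq : (q : ZMod r) ≠ 0) (h4 : 4 ∣ orderOf (q : ZMod r)) (e A b : ℕ) :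
    ∃ (a : ℕ) (Y : ℤ), ((Y : ℤ) : ZMod r) ≠ 0 ∧
      ((q : ℤ) ^ A * ∏ i ∈ Finset.range (2 * e), ((q : ℤ) ^ (i + 1) - 1) * ((q : ℤ) ^ (0 + i) + 1)) * (q : ℤ) ^ a =
      (((q : ℤ) ^ 2) ^ b * ∏ i ∈ Finset.range e, (((q : ℤ) ^ 2) ^ (i + 1) - 1) * (((q : ℤ) ^ 2) ^ (0 + i) + 1)) * Y := by
  refine ⟨2 * b, (q : ℤ) ^ A * ∏ s ∈ Finset.range e, ((q : ℤ) ^ (2 * (2 * s + 1)) - 1), ?_, ?_⟩
  · push_cast
    exact mul_ne_zero (pow_ne_zero _ hq) (Finset.prod_ne_zero_iff.2 fun s _ => sq_sub_ne h4 ⟨s, rfl⟩)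
  · have h1 : ∏ i ∈ Finset.range (2 * e), ((q : ℤ) ^ (i + 1) - 1) * ((q : ℤ) ^ (0 + i) + 1) =
        (∏ i ∈ Finset.range e, (((q : ℤ) ^ 2) ^ (i + 1) - 1) * (((q : ℤ) ^ 2) ^ (0 + i) + 1)) *
          ∏ s ∈ Finset.range e, ((q : ℤ) ^ (2 * (2 * s + 1)) - 1) := by
      rw [prod_pairs, ← Finset.prod_mul_distrib]
      exact Finset.prod_congr rfl fun s _ => by ring
    rw [h1, ← pow_mul]; ring

theorem arith_plus_odd (hr2 : r ≠ 2) (hq : (q : ZMod r) ≠ 0) (h4 : 4 ∣ orderOf (q : ZMod r)) (e A b : ℕ) :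
    ∃ (a : ℕ) (Y : ℤ), ((Y : ℤ) : ZMod r) ≠ 0 ∧
      ((q : ℤ) ^ A * ∏ i ∈ Finset.range (2 * e + 1), ((q : ℤ) ^ (i + 1) - 1) * ((q : ℤ) ^ (0 + i) + 1)) * (q : ℤ) ^ a =
      (((q : ℤ) ^ 2) ^ b * (∏ i ∈ Finset.range e, (((q : ℤ) ^ 2) ^ (i + 1) - 1) * (((q : ℤ) ^ 2) ^ (1 + i) + 1)) * 2) * Y := by
  refine ⟨2 * b, (q : ℤ) ^ A * ((q : ℤ) - 1) *
    ∏ s ∈ Finset.range e, ((q : ℤ) ^ (2 * s + 1) + 1) * ((q : ℤ) ^ (2 * s + 3) - 1), ?_, ?_⟩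
  · push_cast
    refine mul_ne_zero (mul_ne_zero (pow_ne_zero _ hq) ?_) (Finset.prod_ne_zero_iff.2 fun s _ =>
      mul_ne_zero (add_ne h4 ⟨s, rfl⟩) (sub_ne h4 ⟨s + 1, by ring⟩))
    simpa using sub_ne h4 odd_one
  · have h1 : ∏ i ∈ Finset.range (2 * e + 1), ((q : ℤ) ^ (i + 1) - 1) * ((q : ℤ) ^ (0 + i) + 1) =
        (∏ i ∈ Finset.range e, (((q : ℤ) ^ 2) ^ (i + 1) - 1) * (((q : ℤ) ^ 2) ^ (1 + i) + 1)) * 2 *
          (((q : ℤ) - 1) * ∏ s ∈ Finset.range e, ((q : ℤ) ^ (2 * s + 1) + 1) * ((q : ℤ) ^ (2 * s + 3) - 1)) := by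
      rw [Finset.prod_range_succ', prod_pairs]
      have h2 : ∀ s ∈ Finset.range e,
          (((q : ℤ) ^ (2 * s + 1 + 1) - 1) * ((q : ℤ) ^ (0 + (2 * s + 1)) + 1)) *
            (((q : ℤ) ^ (2 * s + 1 + 1 + 1) - 1) * ((q : ℤ) ^ (0 + (2 * s + 1 + 1)) + 1)) =
          ((((q : ℤ) ^ 2) ^ (s + 1) - 1) * (((q : ℤ) ^ 2) ^ (1 + s) + 1)) *
            (((q : ℤ) ^ (2 * s + 1) + 1) * ((q : ℤ) ^ (2 * s + 3) - 1)) := fun s _ => by ring
      rw [Finset.prod_congr rfl h2, Finset.prod_mul_distrib]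
      ring
    rw [h1, ← pow_mul]; ring

theorem arith_minus_even (hq : (q : ZMod r) ≠ 0) (h4 : 4 ∣ orderOf (q : ZMod r)) (e A b : ℕ) :
    ∃ (a : ℕ) (Y : ℤ), ((Y : ℤ) : ZMod r) ≠ 0 ∧
      ((q : ℤ) ^ A * (∏ i ∈ Finset.range (2 * e + 1), ((q : ℤ) ^ (i + 1) - 1) * ((q : ℤ) ^ (2 + i) + 1)) *
        (((q : ℤ) + 1) * 2)) * (q : ℤ) ^ a =
      (((q : ℤ) ^ 2) ^ b * (∏ i ∈ Finset.range e, (((q : ℤ) ^ 2) ^ (i + 1) - 1) * (((q : ℤ) ^ 2) ^ (2 + i) + 1)) *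
        ((((q : ℤ) ^ 2) + 1) * 2)) * Y := by
  refine ⟨2 * b, (q : ℤ) ^ A * ((q : ℤ) ^ (2 * 1) - 1) *
    ∏ s ∈ Finset.range e, ((q : ℤ) ^ (2 * (2 * s + 3)) - 1), ?_, ?_⟩
  · push_cast
    exact mul_ne_zero (mul_ne_zero (pow_ne_zero _ hq) (sq_sub_ne h4 odd_one))
      (Finset.prod_ne_zero_iff.2 fun s _ => sq_sub_ne h4 ⟨s + 1, by ring⟩)
  · rw [Finset.prod_range_succ', prod_pairs]
    have h2 : ∀ s ∈ Finset.range e,
        (((q : ℤ) ^ (2 * s + 1 + 1) - 1) * ((q : ℤ) ^ (2 + (2 * s + 1)) + 1)) *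
          (((q : ℤ) ^ (2 * s + 1 + 1 + 1) - 1) * ((q : ℤ) ^ (2 + (2 * s + 1 + 1)) + 1)) =
        ((((q : ℤ) ^ 2) ^ (s + 1) - 1) * (((q : ℤ) ^ 2) ^ (2 + s) + 1)) *
          ((q : ℤ) ^ (2 * (2 * s + 3)) - 1) := fun s _ => by ring
    rw [Finset.prod_congr rfl h2, Finset.prod_mul_distrib, ← pow_mul (q : ℤ) 2 b]
    ring

theorem arith_minus_odd (hq : (q : ZMod r) ≠ 0) (h4 : 4 ∣ orderOf (q : ZMod r)) (e A b : ℕ) :
    ∃ (a : ℕ) (Y : ℤ), ((Y : ℤ) : ZMod r) ≠ 0 ∧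
      ((q : ℤ) ^ A * (∏ i ∈ Finset.range (2 * e), ((q : ℤ) ^ (i + 1) - 1) * ((q : ℤ) ^ (2 + i) + 1)) *
        (((q : ℤ) + 1) * 2)) * (q : ℤ) ^ a =
      (((q : ℤ) ^ 2) ^ b * (∏ i ∈ Finset.range e, (((q : ℤ) ^ 2) ^ (i + 1) - 1) * (((q : ℤ) ^ 2) ^ (1 + i) + 1)) * 2) * Y := by
  refine ⟨2 * b, (q : ℤ) ^ A * ((q : ℤ) ^ 1 + 1) *
    ∏ s ∈ Finset.range e, ((q : ℤ) ^ (2 * s + 1) - 1) * ((q : ℤ) ^ (2 * s + 3) + 1), ?_, ?_⟩
  · push_cast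
    exact mul_ne_zero (mul_ne_zero (pow_ne_zero _ hq) (add_ne h4 odd_one)) (Finset.prod_ne_zero_iff.2 fun s _ =>
      mul_ne_zero (sub_ne h4 ⟨s, rfl⟩) (add_ne h4 ⟨s + 1, by ring⟩))
  · rw [prod_pairs]
    have h2 : ∀ s ∈ Finset.range e,
        (((q : ℤ) ^ (2 * s + 1) - 1) * ((q : ℤ) ^ (2 + 2 * s) + 1)) *
          (((q : ℤ) ^ (2 * s + 1 + 1) - 1) * ((q : ℤ) ^ (2 + (2 * s + 1)) + 1)) =
        ((((q : ℤ) ^ 2) ^ (s + 1) - 1) * (((q : ℤ) ^ 2) ^ (1 + s) + 1)) *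
          (((q : ℤ) ^ (2 * s + 1) - 1) * ((q : ℤ) ^ (2 * s + 3) + 1)) := fun s _ => by ring
    rw [Finset.prod_congr rfl h2, Finset.prod_mul_distrib, ← pow_mul (q : ℤ) 2 b]
    ring

/-- Exponents with `q ^ n = -1`. -/
theorem order_of_neg (hr2 : r ≠ 2) {n : ℕ} (h : (q : ZMod r) ^ n + 1 = 0) :
    Even (orderOf (q : ZMod r)) ∧ orderOf (q : ZMod r) ≤ 2 * n := by
  have h1 : (q : ZMod r) ^ n = -1 := eq_neg_of_add_eq_zero_left h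
  have hne : (-1 : ZMod r) ≠ 1 := fun e => by
    haveI : Fact (2 < r) := ⟨lt_of_le_of_ne (Fact.out : r.Prime).two_le (Ne.symm hr2)⟩
    exact ZMod.neg_one_ne_one e
  have hn : 0 < n := Nat.pos_of_ne_zero fun e => hne (by rw [← h1, e, pow_zero])
  have h2 : orderOf (q : ZMod r) ∣ 2 * n := orderOf_dvd_of_pow_eq_one (by rw [mul_comm, pow_mul, h1, neg_one_sq])
  refine ⟨?_, Nat.le_of_dvd (by omega) h2⟩
  rcases Nat.even_or_odd (orderOf (q : ZMod r)) with he | ho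
  · exact he
  · exact absurd (orderOf_dvd_iff_pow_eq_one.1 ((ho.coprime_two_right).dvd_of_dvd_mul_left h2) ▸ h1)
      fun e => hne e.symm

theorem order_of_one {n : ℕ} (hn : 0 < n) (h : (q : ZMod r) ^ n - 1 = 0) : orderOf (q : ZMod r) ≤ n :=
  Nat.le_of_dvd hn (orderOf_dvd_of_pow_eq_one (sub_eq_zero.1 h))

theorem cond_plus (hr2 : r ≠ 2) (hq : (q : ZMod r) ≠ 0) {m A : ℕ}
    (h : (((q : ℤ) ^ A * ∏ i ∈ Finset.range m, ((q : ℤ) ^ (i + 1) - 1) * ((q : ℤ) ^ (0 + i) + 1) : ℤ) : ZMod r) = 0) :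
    (Odd (orderOf (q : ZMod r)) → orderOf (q : ZMod r) ≤ m) ∧
      (Even (orderOf (q : ZMod r)) → orderOf (q : ZMod r) < 2 * m) := by
  push_cast at h
  obtain ⟨t, ht, h0⟩ := Finset.prod_eq_zero_iff.1 ((mul_eq_zero.1 h).resolve_left (pow_ne_zero _ hq))
  have ht' := Finset.mem_range.1 ht
  rcases mul_eq_zero.1 h0 with h1 | h1
  · have := order_of_one (n := t + 1) (by omega) h1
    exact ⟨fun _ => by omega, fun _ => by omega⟩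
  · obtain ⟨he, hle⟩ := order_of_neg hr2 h1
    exact ⟨fun ho => absurd he (Nat.not_even_iff_odd.2 ho), fun _ => by omega⟩

theorem cond_minus (hr2 : r ≠ 2) (hq : (q : ZMod r) ≠ 0) {m A : ℕ}
    (h : (((q : ℤ) ^ A * (∏ i ∈ Finset.range m, ((q : ℤ) ^ (i + 1) - 1) * ((q : ℤ) ^ (2 + i) + 1)) *
      (((q : ℤ) + 1) * 2) : ℤ) : ZMod r) = 0) :
    (Odd (orderOf (q : ZMod r)) → orderOf (q : ZMod r) ≤ m) ∧
      (Even (orderOf (q : ZMod r)) → orderOf (q : ZMod r) ≤ 2 * (m + 1)) := by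
  push_cast at h
  have h20 : (2 : ZMod r) ≠ 0 := fun e => hr2 ((Nat.prime_dvd_prime_iff_eq Fact.out Nat.prime_two).1
    ((ZMod.natCast_eq_zero_iff 2 r).1 (by exact_mod_cast e)))
  rcases mul_eq_zero.1 h with h1 | h1
  · obtain ⟨t, ht, h0⟩ := Finset.prod_eq_zero_iff.1 ((mul_eq_zero.1 h1).resolve_left (pow_ne_zero _ hq))
    have ht' := Finset.mem_range.1 ht
    rcases mul_eq_zero.1 h0 with h1 | h1
    · have := order_of_one (n := t + 1) (by omega) h1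
      exact ⟨fun _ => by omega, fun _ => by omega⟩
    · obtain ⟨he, hle⟩ := order_of_neg hr2 h1
      exact ⟨fun ho => absurd he (Nat.not_even_iff_odd.2 ho), fun _ => by omega⟩
  · obtain ⟨he, hle⟩ := order_of_neg (n := 1) hr2 (by rw [pow_one]; exact (mul_eq_zero.1 h1).resolve_right h20)
    exact ⟨fun ho => absurd he (Nat.not_even_iff_odd.2 ho), fun _ => by omega⟩

end Numbers

end Cfsg.Lib.Linear.SkewField.OrthRoot
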