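import Cfsg.Agent.Lib.Linear.SkewField.OrthRoot
import Cfsg.Agent.Lib.Linear.SymplecticGroup
import Cfsg.Agent.Lib.Linear.FormsNormal
import Cfsg.Agent.Lib.Linear.SquareScalar
import Cfsg.Agent.Lib.Linear.PrimeClasses.Embed
import Cfsg.Agent.Lib.Linear.IsotropicFix.OrthSquare
import Cfsg.Agent.Lib.Linear.AutPO.Std
import Mathlib.Algebra.QuadraticAlgebra.NormDeterminant
import Mathlib.RingTheory.Norm.Transitivity

/-!
# Orthogonal spaces over a quadratic extension inside orthogonal spaces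

Coordinates over the extension, conjugacy of self-adjoint roots, and the embedded isometry groups.
-/

set_option autoImplicit false

universe u

namespace Cfsg.Lib.Linear.SkewField.OrthRoot

open Module Cfsg.Lib.Linear Cfsg.Lib.Linear.Orth
open QuadraticAlgebra (omega)
open scoped Matrix

variable {F : Type u} [Field F] {ι : Type} [Fintype ι] [DecidableEq ι]
  {Q : (ι → F) → F} {B : LinearMap.BilinForm F (ι → F)}

/-- The quadratic extension by a root of `ν`. -/
abbrev Ext (ν : F) : Type u := QuadraticAlgebra F ν 0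

variable {ν : F}

theorem fact_of_ns (h : ¬ IsSquare ν) : Fact (∀ r : F, r ^ 2 ≠ ν + 0 * r) :=
  ⟨fun r e => h ⟨r, by rw [← pow_two, e]; ring⟩⟩

variable [Fact (∀ r : F, r ^ 2 ≠ ν + 0 * r)]

theorem ns_of_fact : ¬ IsSquare ν := fun ⟨r, hr⟩ =>
  (Fact.out : ∀ r : F, r ^ 2 ≠ ν + 0 * r) r (by rw [hr]; ring)

theorem ext_two (h2 : (2 : F) ≠ 0) : (2 : Ext ν) ≠ 0 := fun h => h2 (by
  have h' := congrArg QuadraticAlgebra.re h
  simpa [QuadraticAlgebra.re_ofNat] using h')

instance instFiniteExt [Finite F] : Finite (Ext ν) := Module.finite_of_finite F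

/-- The coordinates of a vector space over the extension along a root. -/
def Along (B : LinearMap.BilinForm F (ι → F)) (J : End F (ι → F)) {κ : Type} (ψ : (κ → Ext ν) ≃ₗ[F] (ι → F))
    (β : (κ → Ext ν) → (κ → Ext ν) → Ext ν) : Prop :=
  (∀ x, J (ψ x) = ψ ((omega : Ext ν) • x)) ∧ ∀ x y, B (ψ x) (ψ y) = (β x y).re

theorem with_module (C : Space Q B) (J : End F (ι → F)) (hJ : ∀ v, J (J v) = ν • v)
    (hs : ∀ u v, B (J u) v = B u (J v)) {P : Prop}
    (k : ∀ [Module (Ext ν) (ι → F)] [IsScalarTower F (Ext ν) (ι → F)] (Φ : LinearMap.BilinForm (Ext ν) (ι → F)),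
      (∀ v : ι → F, (omega : Ext ν) • v = J v) → (∀ u v, Φ u v = Φ v u) → (∀ u, (∀ v, Φ u v = 0) → u = 0) →
      (∀ u v, (Φ u v).re = B u v) → P) : P := by
  have hν : ν ≠ 0 := fun h => ns_of_fact (ν := ν) ⟨0, by rw [h, mul_zero]⟩
  letI : Module (Ext ν) (ι → F) := Module.compHom (ι → F)
    (QuadraticAlgebra.lift (a := ν) (b := 0) ⟨J, LinearMap.ext fun v => by simp [hJ]⟩ :
      Ext ν →ₐ[F] End F (ι → F)).toRingHom
  have hsm : ∀ (x : Ext ν) (v : ι → F), x • v = x.re • v + x.im • J v := fun x v => rfl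
  haveI : IsScalarTower F (Ext ν) (ι → F) := ⟨fun c x v => by
    rw [hsm, hsm, smul_add, smul_smul, smul_smul]; rfl⟩
  have hc : ∀ u v, (⟨B u v, ν⁻¹ * B (J u) v⟩ : Ext ν) = ⟨B v u, ν⁻¹ * B (J v) u⟩ := fun u v => by
    rw [C.symm u v, C.symm (J u) v, hs v u]
  have hl : ∀ (x : Ext ν) (u v : ι → F),
      (⟨B (x • u) v, ν⁻¹ * B (J (x • u)) v⟩ : Ext ν) = x • (⟨B u v, ν⁻¹ * B (J u) v⟩ : Ext ν) := fun x u v => by
    rw [hsm, smul_eq_mul]
    ext <;> simp [hJ, mul_add, smul_smul] <;> field_simp <;> ring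
  have ha : ∀ u u' v : ι → F, (⟨B (u + u') v, ν⁻¹ * B (J (u + u')) v⟩ : Ext ν) =
      ⟨B u v, ν⁻¹ * B (J u) v⟩ + ⟨B u' v, ν⁻¹ * B (J u') v⟩ := fun u u' v => by
    ext <;> simp [mul_add]
  refine k (LinearMap.mk₂ (Ext ν) (fun u v => (⟨B u v, ν⁻¹ * B (J u) v⟩ : Ext ν)) ha hl
    (fun u v v' => by rw [hc, ha, hc v, hc v']) (fun x u v => by rw [hc, hl, hc v]))
    (fun v => by rw [hsm]; simp) hc (fun u hu => C.nondeg' fun v => ?_) (fun u v => rfl)
  exact congrArg QuadraticAlgebra.re (hu v)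

theorem finrank_module [Module (Ext ν) (ι → F)] [IsScalarTower F (Ext ν) (ι → F)] {n : ℕ}
    (hn : Fintype.card ι = 2 * n) : finrank (Ext ν) (ι → F) = n := by
  have h := Module.finrank_mul_finrank F (Ext ν) (ι → F)
  rw [QuadraticAlgebra.finrank_eq_two, finrank_fintype_fun_eq_card, hn] at h
  omega

/-- Diagonal coordinates. -/
theorem exists_frame [Finite F] (C : Space Q B) (h2 : (2 : F) ≠ 0) (J : End F (ι → F)) (hJ : ∀ v, J (J v) = ν • v)
    (hs : ∀ u v, B (J u) v = B u (J v)) {m : ℕ} (hn : Fintype.card ι = 2 * (m + 1)) (α : Ext ν) (hα : ¬ IsSquare α) :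
    ∃ (ψ : (Fin (m + 1) → Ext ν) ≃ₗ[F] (ι → F)) (w : Fin (m + 1) → Ext ν),
      Along B J ψ (fun x y => ∑ t, w t * x t * y t) ∧ (∀ t, t ≠ Fin.last m → w t = 1) ∧
      (w (Fin.last m) = 1 ∨ w (Fin.last m) = α) := by
  refine with_module (ν := ν) C J hJ hs fun Φ hω hsym hnd hre => ?_
  haveI : Module.Finite (Ext ν) (ι → F) := Module.Finite.of_restrictScalars_finite F _ _
  obtain ⟨b, hbo, hb1, hbl⟩ := Forms.exists_normal_basis (ext_two h2) Φ hsym hnd (finrank_module hn) α hα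
  let Ψ : (Fin (m + 1) → Ext ν) ≃ₗ[Ext ν] (ι → F) := b.equivFun.symm
  refine ⟨Ψ.restrictScalars F, fun t => Φ (b t) (b t), ⟨fun x => ?_, fun x y => ?_⟩, hb1, hbl⟩
  · show J (Ψ x) = Ψ _
    rw [map_smul, hω]
  · show B (Ψ x) (Ψ y) = _
    rw [← hre]
    congr 1
    have hΨ : ∀ z, Ψ z = ∑ t, z t • b t := fun z => b.equivFun_symm_apply z
    simp only [hΨ, map_sum, map_smul, LinearMap.sum_apply, LinearMap.smul_apply, smul_eq_mul]
    refine Finset.sum_congr rfl fun t _ => ?_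
    rw [Finset.sum_eq_single t (fun s _ hst => by rw [hbo s t hst]; ring) (by simp)]
    ring

/-- The square class of the last coefficient does not depend on the root. -/
theorem class_eq (C : Space Q B) {J J' : End F (ι → F)} {m : ℕ}
    {ψ ψ' : (Fin (m + 1) → Ext ν) ≃ₗ[F] (ι → F)} {w w' : Fin (m + 1) → Ext ν}
    (h : Along B J ψ (fun x y => ∑ t, w t * x t * y t)) (h' : Along B J' ψ' (fun x y => ∑ t, w' t * x t * y t))
    (hw : ∀ t, t ≠ Fin.last m → w t = 1) (hw' : ∀ t, t ≠ Fin.last m → w' t = 1) (hl : w (Fin.last m) ≠ 0) :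
    IsSquare (QuadraticAlgebra.norm (w (Fin.last m)) * QuadraticAlgebra.norm (w' (Fin.last m))) := by
  classical
  let u : Fin (m + 1) → Ext ν := fun t => w' t / w t
  let D : (Fin (m + 1) → Ext ν) →ₗ[Ext ν] (Fin (m + 1) → Ext ν) :=
    { toFun := fun x t => u t * x t
      map_add' := fun x y => funext fun t => mul_add _ _ _
      map_smul' := fun c x => funext fun t => mul_left_comm _ _ _ }
  have hD : LinearMap.det D = w' (Fin.last m) / w (Fin.last m) := by
    rw [SquareScalar.det_of_eigenbasis (Pi.basisFun (Ext ν) (Fin (m + 1))) D u fun t => by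
      funext s
      rw [Pi.basisFun_apply]
      by_cases hst : s = t
      · subst hst; simp [D]
      · simp [D, hst]]
    exact Finset.prod_eq_single (Fin.last m) (fun t _ ht => by simp [u, hw t ht, hw' t ht]) (by simp)
  have hwu : ∀ t, w t * u t = w' t := fun t => by
    by_cases ht : t = Fin.last m
    · subst ht; exact mul_div_cancel₀ _ hl
    · simp [u, hw t ht, hw' t ht]
  let S : End F (ι → F) := (ψ.symm.trans ψ').toLinearMap
  let T : End F (ι → F) := (ψ.toLinearMap ∘ₗ D.restrictScalars F) ∘ₗ ψ.symm.toLinearMap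
  have hST : ∀ a b, B (S a) (S b) = B (T a) b := fun a b => by
    obtain ⟨x, rfl⟩ := ψ.surjective a
    obtain ⟨y, rfl⟩ := ψ.surjective b
    show B (ψ' (ψ.symm (ψ x))) (ψ' (ψ.symm (ψ y))) = B (ψ (D (ψ.symm (ψ x)))) (ψ y)
    rw [ψ.symm_apply_apply, ψ.symm_apply_apply, h'.2, h.2]
    refine congrArg QuadraticAlgebra.re (Finset.sum_congr rfl fun t _ => ?_)
    show _ = w t * (u t * x t) * y t
    rw [← mul_assoc (w t), hwu]
  set M := LinearMap.BilinForm.toMatrix' B
  have hM : ∀ u v, u ⬝ᵥ (M *ᵥ v) = B u v := fun u v => by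
    rw [← Matrix.toBilin'_apply', Matrix.toBilin'_toMatrix']
  have hMd : M.det ≠ 0 := fun h => by
    obtain ⟨v, hv0, hv⟩ := Matrix.exists_mulVec_eq_zero_iff.2 h
    exact hv0 (C.nondeg v fun u => by rw [← hM, hv, dotProduct_zero])
  have hkey : (LinearMap.toMatrix' S)ᵀ * M * LinearMap.toMatrix' S = (LinearMap.toMatrix' T)ᵀ * M :=
    mat_ext fun b => dotProduct_eq _ _ fun a => by
      rw [dotProduct_comm, dotProduct_comm _ a, ← Matrix.mulVec_mulVec, ← Matrix.mulVec_mulVec,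
        ← Matrix.mulVec_mulVec b (LinearMap.toMatrix' T)ᵀ, Matrix.dotProduct_mulVec, Matrix.vecMul_transpose,
        Matrix.dotProduct_mulVec a, Matrix.vecMul_transpose, hM, hM, LinearMap.toMatrix'_mulVec,
        LinearMap.toMatrix'_mulVec, LinearMap.toMatrix'_mulVec, hST]
  have h4 := congrArg Matrix.det hkey
  rw [Matrix.det_mul, Matrix.det_mul, Matrix.det_mul, Matrix.det_transpose, Matrix.det_transpose,
    LinearMap.det_toMatrix', LinearMap.det_toMatrix', show T = (ψ.toLinearMap ∘ₗ D.restrictScalars F) ∘ₗ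
      ψ.symm.toLinearMap from rfl, LinearMap.comp_assoc, LinearMap.det_conj, LinearMap.det_restrictScalars, hD,
    Algebra.norm_apply] at h4
  have hlm : Algebra.lmul F (Ext ν) (w' (Fin.last m) / w (Fin.last m)) =
      DistribSMul.toLinearMap F (Ext ν) (w' (Fin.last m) / w (Fin.last m)) := LinearMap.ext fun x => rfl
  rw [hlm, QuadraticAlgebra.det_toLinearMap_eq_norm] at h4
  have h5 : QuadraticAlgebra.norm (w' (Fin.last m) / w (Fin.last m)) = LinearMap.det S * LinearMap.det S :=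
    mul_right_cancel₀ hMd (by linear_combination -h4)
  refine ⟨LinearMap.det S * QuadraticAlgebra.norm (w (Fin.last m)), ?_⟩
  have h6 : QuadraticAlgebra.norm (w' (Fin.last m)) =
      QuadraticAlgebra.norm (w' (Fin.last m) / w (Fin.last m)) * QuadraticAlgebra.norm (w (Fin.last m)) := by
    rw [← map_mul, div_mul_cancel₀ _ hl]
  rw [h6, h5]
  ring

theorem exists_norm_ns [Finite F] (h2 : (2 : F) ≠ 0) :
    ∃ α : Ext ν, ¬ IsSquare (QuadraticAlgebra.norm α) ∧ ¬ IsSquare α := by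
  have hν : ν ≠ 0 := fun h => ns_of_fact (ν := ν) ⟨0, by rw [h, mul_zero]⟩
  have hchar : ringChar F ≠ 2 := fun h => h2 (by
    haveI := ringChar.charP F
    have := CharP.cast_eq_zero F (ringChar F)
    rw [h] at this
    exact_mod_cast this)
  obtain ⟨δ, hδ⟩ := FiniteField.exists_nonsquare hchar
  obtain ⟨a, b, hab⟩ := SquareScalar.exists_quad hν δ
  have hn : QuadraticAlgebra.norm (⟨a, b⟩ : Ext ν) = δ := by
    rw [QuadraticAlgebra.norm_def]; simp; linear_combination hab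
  exact ⟨⟨a, b⟩, by rw [hn]; exact hδ, fun ⟨s, hs⟩ => hδ ⟨QuadraticAlgebra.norm s, by rw [← hn, hs, map_mul]⟩⟩

/-- Self-adjoint roots of the same non-square are conjugate. -/
theorem roots_conj [Finite F] (C : Space Q B) (h2 : (2 : F) ≠ 0) {n : ℕ} (hn : Fintype.card ι = 2 * n) (hn1 : 1 ≤ n)
    (J J' : End F (ι → F)) (hJ : ∀ v, J (J v) = ν • v) (hs : ∀ u v, B (J u) v = B u (J v))
    (hJ' : ∀ v, J' (J' v) = ν • v) (hs' : ∀ u v, B (J' u) v = B u (J' v)) :
    ∃ G : (ι → F) ≃ₗ[F] (ι → F), (∀ v, Q (G v) = Q v) ∧ ∀ v, G (J v) = J' (G v) := by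
  obtain ⟨α, hαn, hα⟩ := exists_norm_ns (ν := ν) h2
  obtain ⟨m, rfl⟩ : ∃ m, n = m + 1 := ⟨n - 1, by omega⟩
  obtain ⟨ψ, w, h, hw, hwl⟩ := exists_frame C h2 J hJ hs hn α hα
  obtain ⟨ψ', w', h', hw', hwl'⟩ := exists_frame C h2 J' hJ' hs' hn α hα
  have hne : w (Fin.last m) ≠ 0 := by
    rcases hwl with e | e <;> rw [e]
    · exact one_ne_zero
    · exact fun h => hα (h ▸ IsSquare.zero)
  have hsq := class_eq C h h' hw hw' hne
  have hww : w = w' := funext fun t => by
    by_cases ht : t = Fin.last m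
    · subst ht
      rcases hwl with e | e <;> rcases hwl' with e' | e' <;> rw [e, e'] at hsq ⊢
      · exact absurd (by simpa using hsq) hαn
      · exact absurd (by simpa using hsq) hαn
    · rw [hw t ht, hw' t ht]
  subst hww
  let G := ψ.symm.trans ψ'
  have hGB : ∀ u v, B (G u) (G v) = B u v := fun u v => by
    show B (ψ' (ψ.symm u)) (ψ' (ψ.symm v)) = _
    rw [h'.2, ← h.2, ψ.apply_symm_apply, ψ.apply_symm_apply]
  refine ⟨G, fun v => mul_left_cancel₀ h2 (by rw [← C.self, ← C.self, hGB]), fun v => ?_⟩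
  show ψ' (ψ.symm (J v)) = J' (ψ' (ψ.symm v))
  rw [h'.1, ← ψ.apply_symm_apply v, h.1, ψ.symm_apply_apply, ψ.symm_apply_apply]

/-- Standard coordinates along a root. -/
def StdAlong (B : LinearMap.BilinForm F (ι → F)) (J : End F (ι → F)) {κ : Type}
    (Qs : (κ → Ext ν) → Ext ν) : Prop :=
  ∃ (ψ : (κ → Ext ν) ≃ₗ[F] (ι → F)) (c : Ext ν), c ≠ 0 ∧
    Along B J ψ (fun x y => c * QuadraticMap.polar Qs x y)

theorem std_of_map [Module (Ext ν) (ι → F)] [IsScalarTower F (Ext ν) (ι → F)] (h2 : (2 : F) ≠ 0)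
    {J : End F (ι → F)} {Φ : LinearMap.BilinForm (Ext ν) (ι → F)} (hω : ∀ v : ι → F, (omega : Ext ν) • v = J v)
    (hsym : ∀ u v, Φ u v = Φ v u) (hre : ∀ u v, (Φ u v).re = B u v) {κ : Type} [Fintype κ] [DecidableEq κ]
    {Qs : (κ → Ext ν) → Ext ν} {Bs : LinearMap.BilinForm (Ext ν) (κ → Ext ν)} (CS : Space Qs Bs)
    (hκ : Fintype.card κ = finrank (Ext ν) (ι → F)) (Λ : (κ → Ext ν) →ₗ[Ext ν] (ι → F)) {c : Ext ν} (hc : c ≠ 0)
    (hΛ : ∀ x, Φ (Λ x) (Λ x) = c * Qs x) : StdAlong B J Qs := by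
  haveI : Module.Finite (Ext ν) (ι → F) := Module.Finite.of_restrictScalars_finite F _ _
  have h2' := ext_two (ν := ν) h2
  have hpol : ∀ x y, Φ (Λ x) (Λ y) = c / 2 * QuadraticMap.polar Qs x y := fun x y => by
    have h := hΛ (x + y)
    rw [map_add, map_add, map_add, LinearMap.add_apply, LinearMap.add_apply, hΛ, hΛ, hsym (Λ y) (Λ x)] at h
    rw [QuadraticMap.polar, div_mul_eq_mul_div, eq_div_iff h2']
    linear_combination h
  have hinj : Function.Injective Λ := (injective_iff_map_eq_zero Λ).2 fun x hx => CS.nondeg' fun y => by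
    have h := hpol x y
    rw [hx, map_zero, LinearMap.zero_apply, CS.polar, eq_comm, mul_eq_zero] at h
    exact h.resolve_left (div_ne_zero hc h2')
  let Ψ := LinearMap.linearEquivOfInjective Λ hinj (by rw [finrank_fintype_fun_eq_card, hκ])
  refine ⟨Ψ.restrictScalars F, c / 2, div_ne_zero hc h2', fun x => ?_, fun x y => ?_⟩
  · show J (Λ x) = Λ _
    rw [map_smul, hω]
  · show B (Λ x) (Λ y) = _
    rw [← hre, hpol]

theorem std_even [Finite F] (C : Space Q B) (h2 : (2 : F) ≠ 0) (J : End F (ι → F)) (hJ : ∀ v, J (J v) = ν • v)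
    (hs : ∀ u v, B (J u) v = B u (J v)) {e : ℕ} (he : 1 ≤ e) (hn : Fintype.card ι = 2 * (2 * e)) :
    StdAlong B J (Cfsg.quadFormPlus e (Ext ν)) ∨
      ∃ z : Ext ν, (∀ z₁ z₂ : Ext ν, z₁ ^ 2 + 1 * z₁ * z₂ + z * z₂ ^ 2 = 0 → z₁ = 0 ∧ z₂ = 0) ∧
        StdAlong B J (Cfsg.quadFormMinus (e - 1) (Ext ν) 1 z) := by
  classical
  refine with_module (ν := ν) C J hJ hs fun Φ hω hsym hnd hre => ?_
  haveI : Module.Finite (Ext ν) (ι → F) := Module.Finite.of_restrictScalars_finite F _ _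
  have hV : finrank (Ext ν) (ι → F) = 2 * e := finrank_module hn
  have h2' := ext_two (ν := ν) h2
  let qf : QuadraticForm (Ext ν) (ι → F) := LinearMap.BilinMap.toQuadraticMap Φ
  have hpb : ∀ u v, QuadraticMap.polar qf u v = 2 * Φ u v := fun u v => by
    show QuadraticMap.polar (fun x => Φ x x) u v = _
    simp only [QuadraticMap.polar, map_add, LinearMap.add_apply, hsym v u]
    ring
  have hqn : (QuadraticMap.polarBilin qf).Nondegenerate := by
    constructor <;> intro u hu <;> refine hnd u fun v => (mul_eq_zero.1 ?_).resolve_left h2'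
    · rw [← hpb]; exact hu v
    · rw [← hpb, QuadraticMap.polar_comm]; exact hu v
  obtain ⟨co, B', C', -⟩ := Orth.exists_coord qf hqn
  rcases Cfsg.Agent.Lib.Linear.PrimeClasses.classify C' he (by rw [Fintype.card_fin, hV]) with
    ⟨-, Λ, hΛ⟩ | ⟨z, hz, -, Λ, hΛ⟩
  · obtain ⟨DS, CS⟩ := exists_space_plus (F := Ext ν) e
    exact Or.inl (std_of_map h2 hω hsym hre CS (by simp [hV]; ring) (co.symm.toLinearMap ∘ₗ Λ) one_ne_zero
      fun x => by rw [one_mul]; exact hΛ x)
  · obtain ⟨DS, CS⟩ := exists_space_minus (e - 1) 1 z hz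
    exact Or.inr ⟨z, hz, std_of_map h2 hω hsym hre CS (by simp [hV]; omega) (co.symm.toLinearMap ∘ₗ Λ) one_ne_zero
      fun x => by rw [one_mul]; exact hΛ x⟩

theorem std_odd [Finite F] (C : Space Q B) (h2 : (2 : F) ≠ 0) (J : End F (ι → F)) (hJ : ∀ v, J (J v) = ν • v)
    (hs : ∀ u v, B (J u) v = B u (J v)) {e : ℕ} (hn : Fintype.card ι = 2 * (2 * e + 1)) :
    StdAlong B J (Cfsg.quadFormOdd e (Ext ν)) := by
  classical
  refine with_module (ν := ν) C J hJ hs fun Φ hω hsym hnd hre => ?_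
  haveI : Module.Finite (Ext ν) (ι → F) := Module.Finite.of_restrictScalars_finite F _ _
  have hV : finrank (Ext ν) (ι → F) = 2 * e + 1 := finrank_module hn
  have h2' := ext_two (ν := ν) h2
  let qf : QuadraticForm (Ext ν) (ι → F) := LinearMap.BilinMap.toQuadraticMap Φ
  have hqa : ∀ u, qf u = Φ u u := fun u => rfl
  have hpb : ∀ u v, QuadraticMap.polar qf u v = 2 * Φ u v := fun u v => by
    show QuadraticMap.polar (fun x => Φ x x) u v = _
    simp only [QuadraticMap.polar, map_add, LinearMap.add_apply, hsym v u]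
    ring
  have hqn : (QuadraticMap.polarBilin qf).Nondegenerate := by
    constructor <;> intro u hu <;> refine hnd u fun v => (mul_eq_zero.1 ?_).resolve_left h2'
    · rw [← hpb]; exact hu v
    · rw [← hpb, QuadraticMap.polar_comm]; exact hu v
  obtain ⟨b, hb0, hb1, hbs, hbp, hbz⟩ := std_basis_odd hV qf hqn
  set c := qf (b (Sum.inl ())) with hc
  let v : Unit ⊕ (Fin e ⊕ Fin e) → (ι → F) :=
    Sum.elim (fun u => b (.inl u)) (Sum.elim (fun i => c • b (.inr (.inl i))) fun i => b (.inr (.inr i)))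
  obtain ⟨DS, CS⟩ := exists_space (Q := Cfsg.quadFormOdd e (Ext ν)) (isQuad_odd e h2')
  let Λ : (Unit ⊕ (Fin e ⊕ Fin e) → Ext ν) →ₗ[Ext ν] (ι → F) := Fintype.linearCombination (Ext ν) v
  have hinj : Function.Injective Λ := (injective_iff_map_eq_zero Λ).2 fun g hg => by
    let u : Unit ⊕ (Fin e ⊕ Fin e) → Ext ν := Sum.elim 1 (Sum.elim (fun _ => c) 1)
    have hv : ∀ i, v i = u i • b i := fun i => by rcases i with i | i | i <;> simp [v, u]
    have h0 : ∑ i, (g i * u i) • b i = 0 := by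
      rw [← hg]
      show _ = ∑ i, g i • v i
      refine Finset.sum_congr rfl fun i _ => ?_
      rw [mul_smul, ← hv]
    have hu : ∀ i, u i ≠ 0 := fun i => by rcases i with i | i | i <;> simp [u, hb0]
    exact funext fun i => (mul_eq_zero.1 (Fintype.linearIndependent_iff.1 b.linearIndependent _ h0 i)).resolve_right
      (hu i)
  have hsur : Function.Surjective Λ :=
    (LinearMap.injective_iff_surjective_of_finrank_eq_finrank (by simp [hV]; omega)).1 hinj
  have CR : Space (fun x => c⁻¹ * Φ (Λ x) (Λ x)) (c⁻¹ • ((2 : Ext ν) • Φ.compl₁₂ Λ Λ)) := by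
    refine ⟨fun a y => by simp; ring, fun y z => ?_, fun y hy => ?_⟩
    · simp only [QuadraticMap.polar, map_add, LinearMap.add_apply, LinearMap.smul_apply, LinearMap.compl₁₂_apply,
        smul_eq_mul, hsym (Λ z) (Λ y)]
      ring
    · refine (injective_iff_map_eq_zero Λ).1 hinj y (hnd _ fun z => ?_)
      obtain ⟨z, rfl⟩ := hsur z
      have h := hy z
      simp only [LinearMap.smul_apply, LinearMap.compl₁₂_apply, smul_eq_mul, mul_eq_zero, inv_eq_zero, hb0, h2',
        false_or] at h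
      rw [hsym]; exact h
  have hodd : ∀ x y, DS x y = 2 * x (.inl ()) * y (.inl ()) + ∑ i,
      (x (.inr (.inl i)) * y (.inr (.inr i)) + x (.inr (.inr i)) * y (.inr (.inl i))) := fun x y => by
    rw [← CS.polar]
    simp only [QuadraticMap.polar, Cfsg.quadFormOdd, Pi.add_apply, add_mul, mul_add, Finset.sum_add_distrib,
      mul_comm (y (.inr (.inl _))) (x (.inr (.inr _)))]
    ring
  refine std_of_map h2 hω hsym hre CS (by simp [hV]; omega) Λ (c := c) hb0 fun x => ?_
  rw [← show c⁻¹ * Φ (Λ x) (Λ x) = Cfsg.quadFormOdd e (Ext ν) x from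
    Cfsg.Agent.Lib.Linear.PrimeClasses.form_ext CR CS (fun i => ?_) (fun i j => ?_) x, mul_inv_cancel_left₀ hb0]
  · have hz : ∀ i, Φ (b (.inr i)) (b (.inr i)) = 0 := fun i => by
      rcases i with i | i
      · exact (hbs i).1
      · exact (hbs i).2
    rcases i with i | i | i <;> simp [Λ, v, Cfsg.quadFormOdd, Pi.single_apply, hz, ← hqa, hb0, c]
  · have hp : ∀ u v, (2 : Ext ν) * Φ u v = QuadraticMap.polar qf u v := fun u v => (hpb u v).symm
    simp only [hodd, LinearMap.smul_apply, LinearMap.compl₁₂_apply, smul_eq_mul, hp]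
    rcases i with i | i | i <;> rcases j with j | j | j <;>
      simp [Λ, v, QuadraticMap.polar_smul_left, QuadraticMap.polar_smul_right, QuadraticMap.polar_self,
        QuadraticMap.polar_comm qf (b (.inr (.inl _))) (b (.inl ())),
        QuadraticMap.polar_comm qf (b (.inr (.inr _))) (b (.inl ())),
        QuadraticMap.polar_comm qf (b (.inr (.inr _))) (b (.inr (.inl _))),
        (hb1 _).1, (hb1 _).2, hbp, (hbz _ _).1, (hbz _ _).2, ← hc, hb0, Pi.single_apply, eq_comm] <;>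
      (field_simp; try ring)

/-- The isometry group in standard coordinates embeds into the normaliser. -/
theorem card_dvd_of_std [Finite F] {K : Subalgebra F (Matrix ι ι F)} {Θ : Matrix ι ι F} (R : Root Q B K Θ ν)
    {κ : Type} [Fintype κ] [DecidableEq κ] {Qs : (κ → Ext ν) → Ext ν} (h : StdAlong B (Matrix.toLin' Θ) Qs) :
    Nat.card ↥(Cfsg.isometryGroup (Ext ν) Qs) ∣
      Nat.card ↥((Cfsg.Geo.subalgebraNormalizer K).comap (Cfsg.isometryGroup F Q).subtype) := by
  obtain ⟨ψ, c, -, hω, hB⟩ := h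
  let res : ((κ → Ext ν) ≃ₗ[Ext ν] (κ → Ext ν)) →* ((ι → F) ≃ₗ[F] (ι → F)) :=
    { toFun := fun g => ψ.symm.trans ((g.restrictScalars F).trans ψ)
      map_one' := LinearEquiv.ext fun v => ψ.apply_symm_apply v
      map_mul' := fun g g' => LinearEquiv.ext fun v => by
        show ψ (g (g' (ψ.symm v))) = ψ (g (ψ.symm (ψ (g' (ψ.symm v)))))
        rw [ψ.symm_apply_apply] }
  let ρ : ↥(Cfsg.isometryGroup (Ext ν) Qs) →* GL ι F :=
    ((Symp.glEquiv ι F).symm.toMonoidHom.comp (res.comp (Symp.glEquiv κ (Ext ν)).toMonoidHom)).comp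
      (Cfsg.isometryGroup (Ext ν) Qs).subtype
  have hρ : ∀ g x, (ρ g).val *ᵥ ψ x = ψ ((g : GL κ (Ext ν)).val *ᵥ x) := fun g x => by
    rw [← Symp.glEquiv_apply]
    refine (LinearEquiv.congr_fun ((Symp.glEquiv ι F).apply_symm_apply (res (Symp.glEquiv κ (Ext ν) g))) (ψ x)).trans ?_
    show ψ (Symp.glEquiv κ (Ext ν) g (ψ.symm (ψ x))) = _
    rw [ψ.symm_apply_apply, Symp.glEquiv_apply]
  have hiso : ∀ g, ρ g ∈ Cfsg.isometryGroup F Q := fun g => mem_iso.2 fun v => by
    obtain ⟨x, rfl⟩ := ψ.surjective v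
    refine mul_left_cancel₀ R.two ?_
    rw [← R.space.self, ← R.space.self, hρ, hB, hB]
    simp only [QuadraticMap.polar, ← Matrix.mulVec_add, mem_iso.1 g.2]
  let ρ' : ↥(Cfsg.isometryGroup (Ext ν) Qs) →* ↥(Cfsg.isometryGroup F Q) := ρ.codRestrict _ hiso
  refine Subgroup.card_dvd_of_injective (ρ'.codRestrict _ fun g => ?_) fun g g' h => ?_
  · show ρ g ∈ Cfsg.Geo.subalgebraNormalizer K
    refine R.norm_of_sign one_ne_zero ?_
    rw [one_smul]
    refine mat_ext fun v => ?_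
    obtain ⟨x, rfl⟩ := ψ.surjective v
    have hΘ : ∀ y, Θ *ᵥ ψ y = ψ ((omega : Ext ν) • y) := fun y => by rw [← hω, Matrix.toLin'_apply]
    rw [← Matrix.mulVec_mulVec, ← Matrix.mulVec_mulVec, hΘ, hρ, hρ, hΘ, Matrix.mulVec_smul]
  · refine Subtype.ext (gl_ext fun x => ψ.injective ?_)
    rw [← hρ, ← hρ]
    exact congrArg (fun y : GL ι F => y.val *ᵥ ψ x) (congrArg Subtype.val (congrArg Subtype.val h))

/-- A totally singular subspace stable under the root gives one over the extension. -/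
theorem singular_over {J : End F (ι → F)} (h2 : (2 : F) ≠ 0) {κ : Type} [Fintype κ] [DecidableEq κ]
    {Qs : (κ → Ext ν) → Ext ν} {Bs : LinearMap.BilinForm (Ext ν) (κ → Ext ν)} (CS : Space Qs Bs)
    (h : StdAlong B J Qs) {W : Submodule F (ι → F)} (hWJ : ∀ v ∈ W, J v ∈ W) (hW : ∀ u ∈ W, ∀ v ∈ W, B u v = 0) :
    ∃ A : Submodule (Ext ν) (κ → Ext ν), 2 * finrank (Ext ν) A = finrank F W ∧ ∀ x ∈ A, Qs x = 0 := by
  obtain ⟨ψ, c, hc, hω, hB⟩ := h
  have hdec : ∀ (a : Ext ν) (x : κ → Ext ν), a • x = a.re • x + a.im • ((omega : Ext ν) • x) := fun a x => by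
    funext k
    ext <;> simp [smul_eq_mul] <;> ring
  have hωW : ∀ x, ψ x ∈ W → ψ ((omega : Ext ν) • x) ∈ W := fun x hx => hω x ▸ hWJ _ hx
  let A : Submodule (Ext ν) (κ → Ext ν) :=
    { carrier := {x | ψ x ∈ W}
      add_mem' := fun {a b} ha hb => by
        show ψ (a + b) ∈ W
        rw [map_add]; exact W.add_mem ha hb
      zero_mem' := by show ψ 0 ∈ W; rw [map_zero]; exact W.zero_mem
      smul_mem' := fun a x hx => by
        show ψ (a • x) ∈ W
        rw [hdec, map_add, map_smul, map_smul]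
        exact W.add_mem (W.smul_mem _ hx) (W.smul_mem _ (hωW x hx)) }
  refine ⟨A, ?_, fun x hx => ?_⟩
  · have h1 := Module.finrank_mul_finrank F (Ext ν) A
    rw [QuadraticAlgebra.finrank_eq_two] at h1
    rw [h1]
    exact ((ψ.submoduleMap (A.restrictScalars F)).trans (LinearEquiv.ofEq _ _ (Submodule.ext fun v => by
      constructor
      · rintro ⟨y, hy, rfl⟩; exact hy
      · intro hv; exact ⟨ψ.symm v, by show ψ _ ∈ W; rwa [ψ.apply_symm_apply], ψ.apply_symm_apply v⟩))).finrank_eq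
  · have hz : c * QuadraticMap.polar Qs x x = 0 := by
      have h0 : ∀ y ∈ A, (c * QuadraticMap.polar Qs x y).re = 0 := fun y hy => by
        rw [← hB]; exact hW _ hx _ hy
      have e1 := h0 x hx
      have e2 := h0 ((omega : Ext ν) • x) (A.smul_mem _ hx)
      rw [CS.polar, map_smul, smul_eq_mul] at e2
      rw [CS.polar] at e1 ⊢
      have hν : ν ≠ 0 := fun h => ns_of_fact (ν := ν) ⟨0, by rw [h, mul_zero]⟩
      ext
      · exact e1
      · have e3 : ν * (c * Bs x x).im = 0 := by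
          simp at e2
          simp only [QuadraticAlgebra.im_mul]
          linear_combination e2
        simpa [hν] using e3
    rw [CS.polar, CS.self, mul_eq_zero, mul_eq_zero] at hz
    exact (hz.resolve_left hc).resolve_left (ext_two h2)

end Cfsg.Lib.Linear.SkewField.OrthRoot
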