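import Cfsg.Agent.Lib.Linear.SkewField.OrthRootFrame
import Cfsg.Agent.Lib.Linear.OrthSpinor
import Cfsg.Agent.Lib.Linear.IsotropicFix.OrthSquare

/-!
# Involutions modulo scalars normalise conjugates of self-adjoint quadratic fields
-/

set_option autoImplicit false

universe u

namespace Cfsg.Lib.Linear.SkewField.OrthRoot

open Module Cfsg.Lib.Linear Cfsg.Lib.Linear.Orth Cfsg.Lib.Linear.IsoFix
open scoped Matrix

variable {F : Type u} [Field F] {ι : Type} [Fintype ι] [DecidableEq ι]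
  {Q : (ι → F) → F} {B : LinearMap.BilinForm F (ι → F)}
  {K : Subalgebra F (Matrix ι ι F)} {Θ : Matrix ι ι F} {ν : F}

theorem pairList_get (g : GL ι F) : ∀ (L : List (ι → F)) (a : ℕ) (h : 2 * a + 1 < (pairList g L).length),
    (pairList g L)[2 * a + 1] = g.val *ᵥ (pairList g L)[2 * a]'(by omega) := by
  intro L
  induction L with
  | nil => intro a h; simp [pairList] at h
  | cons v L ih =>
    intro a h
    have e : pairList g (v :: L) = v :: g.val *ᵥ v :: pairList g L := rfl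
    simp only [e]
    rcases a with _ | a
    · rfl
    · have h' : 2 * a + 1 < (pairList g L).length := by
        simp only [e, List.length_cons] at h; omega
      simpa [show 2 * (a + 1) + 1 = (2 * a + 1) + 1 + 1 by ring, show 2 * (a + 1) = 2 * a + 1 + 1 by ring] using
        ih a h'

/-- A plane on which `x` is a scalar or a quarter turn. -/
def PlaneFor (Q : (ι → F) → F) (x : GL ι F) (ε : F) (u w : ι → F) : Prop :=
  (ε = 1 ∧ ∃ s : F, s * s = 1 ∧ x.val *ᵥ u = s • u ∧ x.val *ᵥ w = s • w) ∨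
    (ε = -1 ∧ x.val *ᵥ u = w ∧ x.val *ᵥ w = -u ∧ Q w = Q u)

variable [Fintype F]

/-- An orthogonal list of adapted planes. -/
theorem exists_planes (C : Space Q B) (h2 : (2 : F) ≠ 0) {d : ℕ} (hn : Fintype.card ι = 2 * d) (hd : 1 ≤ d)
    {x : GL ι F} (hx : x ∈ Cfsg.Geo.omegaGL Q) {z : F} (hxz : ((x ^ 2 : GL ι F) : Matrix ι ι F) = z • 1) :
    ∃ (ε : F) (u w : Fin d → (ι → F)), ε ≠ 0 ∧
      (∀ s, Q (Sum.elim u w s) ≠ 0) ∧ (∀ s t, s ≠ t → B (Sum.elim u w s) (Sum.elim u w t) = 0) ∧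
      ∀ a, PlaneFor Q x ε (u a) (w a) := by
  classical
  obtain ⟨⟨g, hgi⟩, hgc, rfl⟩ := hx
  have mk : ∀ (ε : F) (L : List (ι → F)) (_ : OrthList Q B L) (hlen : L.length = 2 * d), ε ≠ 0 →
      (∀ (a : ℕ) (h : 2 * a + 1 < L.length), PlaneFor Q g ε (L[2 * a]'(by omega)) L[2 * a + 1]) →
      ∃ (ε : F) (u w : Fin d → (ι → F)), ε ≠ 0 ∧
        (∀ s, Q (Sum.elim u w s) ≠ 0) ∧ (∀ s t, s ≠ t → B (Sum.elim u w s) (Sum.elim u w t) = 0) ∧
        ∀ a, PlaneFor Q g ε (u a) (w a) := by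
    intro ε L hL hlen hε hP
    let idx : Fin d ⊕ Fin d → Fin L.length := Sum.elim
      (fun a => ⟨2 * (a : ℕ), by have := a.2; omega⟩) (fun a => ⟨2 * (a : ℕ) + 1, by have := a.2; omega⟩)
    have hidx : ∀ s, Sum.elim (fun a : Fin d => L[2 * (a : ℕ)]'(by have := a.2; omega))
        (fun a : Fin d => L[2 * (a : ℕ) + 1]'(by have := a.2; omega)) s = L[(idx s : ℕ)] := by
      rintro (a | a) <;> rfl
    have hinj : Function.Injective idx := by
      rintro (a | a) (b | b) h <;> simp [idx, Fin.ext_iff] at h <;>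
        first
          | exact congrArg Sum.inl (Fin.ext (by omega))
          | exact congrArg Sum.inr (Fin.ext (by omega))
          | omega
    refine ⟨ε, fun a => L[2 * (a : ℕ)]'(by have := a.2; omega), fun a => L[2 * (a : ℕ) + 1]'(by have := a.2; omega),
      hε, fun s => ?_, fun s t hst => ?_, fun a => hP a (by have := a.2; omega)⟩
    · rw [hidx]; exact hL.1 _ (List.getElem_mem _)
    · rw [hidx, hidx]
      rcases lt_or_gt_of_ne (fun h => hst (hinj (Fin.ext h))) with h | h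
      · exact List.pairwise_iff_getElem.1 hL.2 _ _ (idx s).2 (idx t).2 h
      · rw [C.symm]; exact List.pairwise_iff_getElem.1 hL.2 _ _ (idx t).2 (idx s).2 h
  rcases sq_scalar C (by omega) hgi hxz with h1 | hsq
  · obtain ⟨Lp, Lm, hp, hm, hOp, hOm, hlen, heven, -⟩ := exists_lists_omega C h2 (by omega) ⟨g, hgi⟩ hgc
      (Subtype.ext h1)
    refine mk 1 (Lp ++ Lm) (orth_append C h2 hgi hp hm hOp hOm) (by rw [List.length_append]; omega) one_ne_zero
      fun a h => Or.inl ⟨rfl, ?_⟩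
    obtain ⟨k, hk⟩ := heven
    by_cases ha : 2 * a + 1 < Lp.length
    · refine ⟨1, mul_one 1, ?_, ?_⟩
      · rw [List.getElem_append_left (by omega), one_smul]; exact hp _ (List.getElem_mem _)
      · rw [List.getElem_append_left ha, one_smul]; exact hp _ (List.getElem_mem _)
    · refine ⟨-1, by ring, ?_, ?_⟩
      · rw [List.getElem_append_right (by omega), neg_one_smul]; exact hm _ (List.getElem_mem _)
      · rw [List.getElem_append_right (by omega), neg_one_smul]; exact hm _ (List.getElem_mem _)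
  · obtain ⟨L, -, hO, hspan⟩ := IsoFix.exists_pairs C h2 hgi hsq _ ⊤ rfl C.ndeg_top fun x _ => Submodule.mem_top
    have hlen := length_of_span C h2 hO hspan
    refine mk (-1) (pairList g L) hO (by omega) (neg_ne_zero.2 one_ne_zero) fun a h => Or.inr ⟨rfl, ?_, ?_, ?_⟩
    · rw [pairList_get]
    · rw [pairList_get]; exact hsq _
    · rw [pairList_get]; exact mem_iso.1 hgi _

/-- Elements whose square is a scalar normalise a conjugate. -/
theorem Root.two_fixes (R : Root Q B K Θ ν) {d : ℕ} (hn : Fintype.card ι = 2 * d) (hd : 1 ≤ d)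
    {x : GL ι F} (hx : x ∈ Cfsg.Geo.omegaGL Q) {z : F} (hxz : ((x ^ 2 : GL ι F) : Matrix ι ι F) = z • 1) :
    ∃ g ∈ Cfsg.Geo.omegaGL Q, g⁻¹ * x * g ∈ Cfsg.Geo.subalgebraNormalizer K := by
  classical
  have C := R.space
  have h2 := R.two
  obtain ⟨ε, u, w, hε, hQ, ho, hP⟩ := exists_planes C h2 hn hd hx hxz
  have hQu : ∀ a, Q (u a) ≠ 0 := fun a => hQ (.inl a)
  have hQw : ∀ a, Q (w a) ≠ 0 := fun a => hQ (.inr a)
  have huw : ∀ a b, B (u a) (w b) = 0 := fun a b => ho (.inl a) (.inr b) Sum.inl_ne_inr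
  have hwu : ∀ a b, B (w a) (u b) = 0 := fun a b => ho (.inr a) (.inl b) Sum.inr_ne_inl
  have huu : ∀ a b, a ≠ b → B (u a) (u b) = 0 := fun a b h => ho (.inl a) (.inl b) fun e => h (Sum.inl_injective e)
  have hww : ∀ a b, a ≠ b → B (w a) (w b) = 0 := fun a b h => ho (.inr a) (.inr b) fun e => h (Sum.inr_injective e)
  have hli := Forms.orth_li B (Sum.elim u w) ho fun s => by rw [C.self]; exact mul_ne_zero h2 (hQ s)
  haveI : Nonempty (Fin d ⊕ Fin d) := ⟨.inl ⟨0, hd⟩⟩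
  let β := basisOfLinearIndependentOfCardEqFinrank hli (by rw [finrank_fintype_fun_eq_card, hn]; simp; ring)
  have hβ : ∀ s, β s = Sum.elim u w s := fun s =>
    congrFun (coe_basisOfLinearIndependentOfCardEqFinrank _ _) s
  have hps : ∀ a, ∃ ps : F × F, ps.1 * ps.1 + Q (w a) / Q (u a) * (ps.2 * ps.2) = ν := fun a => by
    obtain ⟨α, γ, h⟩ := SquareScalar.exists_quad (z := -(Q (w a) / Q (u a)))
      (neg_ne_zero.2 (div_ne_zero (hQw a) (hQu a))) ν
    exact ⟨(α, γ), by linear_combination h⟩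
  choose ps hps using hps
  let J : End F (ι → F) := β.constr F (Sum.elim (fun a => (ps a).1 • u a + (ps a).2 • w a)
    fun a => ((ps a).2 * (Q (w a) / Q (u a))) • u a + (-(ps a).1) • w a)
  have hJu : ∀ a, J (u a) = (ps a).1 • u a + (ps a).2 • w a := fun a => by
    rw [show u a = β (.inl a) by rw [hβ]; rfl, Basis.constr_basis]; simp [hβ]
  have hJw : ∀ a, J (w a) = ((ps a).2 * (Q (w a) / Q (u a))) • u a + (-(ps a).1) • w a := fun a => by
    rw [show w a = β (.inr a) by rw [hβ]; rfl, Basis.constr_basis]; simp [hβ]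
  have hJJ : ∀ v, J (J v) = ν • v := fun v => by
    refine LinearMap.congr_fun (f := J ∘ₗ J) (g := ν • LinearMap.id) (β.ext ?_) v
    rintro (a | a) <;>
      simp only [LinearMap.comp_apply, LinearMap.smul_apply, LinearMap.id_apply, hβ, Sum.elim_inl, Sum.elim_inr,
        hJu, hJw, map_add, map_smul] <;> rw [← hps a] <;> module
  have hJs : ∀ a b, B (J a) b = B a (J b) := by
    have h : B.compl₁₂ J LinearMap.id = B.compl₁₂ LinearMap.id J := by
      refine LinearMap.ext_basis β β ?_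
      intro s t
      rcases s with a | a <;> rcases t with b | b <;>
        simp only [LinearMap.compl₁₂_apply, LinearMap.id_apply, hβ, Sum.elim_inl, Sum.elim_inr, hJu, hJw, map_add,
          map_smul, LinearMap.add_apply, LinearMap.smul_apply, smul_eq_mul, huw, hwu, mul_zero, add_zero, zero_add] <;>
        (by_cases hab : a = b
         · subst hab
           simp only [C.self]
           try field_simp [hQu a]
         · simp [huu a b hab, hww a b hab])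
    exact fun a b => LinearMap.congr_fun₂ h a b
  -- the effect of a plane change
  obtain ⟨a₀, -⟩ : ∃ a₀ : Fin d, True := ⟨⟨0, hd⟩, trivial⟩
  let P₀ := Submodule.span F ({u a₀, w a₀} : Set (ι → F))
  have hu₀ : u a₀ ∈ P₀ := Submodule.subset_span (by simp)
  have hw₀ : w a₀ ∈ P₀ := Submodule.subset_span (by simp)
  let Good : GL ι F → Prop := fun h => ∃ δ : F, (∀ a, a ≠ a₀ → h.val *ᵥ u a = u a ∧ h.val *ᵥ w a = w a) ∧
    ∀ v ∈ P₀, h.val *ᵥ v ∈ P₀ ∧ x.val *ᵥ (h.val *ᵥ v) = δ • (h.val *ᵥ (x.val *ᵥ v))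
  have hgood1 : Good 1 := ⟨1, fun a _ => by simp, fun v hv => by simp [hv]⟩
  have hgmul : ∀ h k, Good h → Good k → Good (h * k) := by
    rintro h k ⟨δ, hf, hp⟩ ⟨δ', hf', hp'⟩
    refine ⟨δ * δ', fun a ha => ?_, fun v hv => ?_⟩
    · exact ⟨by rw [mul_act, (hf' a ha).1, (hf a ha).1], by rw [mul_act, (hf' a ha).2, (hf a ha).2]⟩
    · obtain ⟨hm, he⟩ := hp' v hv
      refine ⟨by rw [mul_act]; exact (hp _ hm).1, ?_⟩
      rw [mul_act, mul_act, (hp _ hm).2, he, Matrix.mulVec_smul, smul_smul]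
  have hrefl : ∀ c : F, c ≠ 0 → ∃ (v : ι → F) (hv : Q v ≠ 0), Q v = c ∧ Good (rI C v hv : GL ι F) := by
    intro c hc
    obtain ⟨α, γ, hαγ⟩ := SquareScalar.exists_quad (z := -(Q (w a₀) / Q (u a₀)))
      (neg_ne_zero.2 (div_ne_zero (hQw a₀) (hQu a₀))) (c / Q (u a₀))
    obtain ⟨v, hv⟩ : ∃ v, v = α • u a₀ + γ • w a₀ := ⟨_, rfl⟩
    have hQv : Q v = c := by
      rw [hv, C.smul_add, huw, mul_zero, add_zero]
      have h0 := hQu a₀
      field_simp at hαγ
      linear_combination hαγ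
    have hv0 : Q v ≠ 0 := hQv.symm ▸ hc
    have hvP : v ∈ P₀ := hv ▸ P₀.add_mem (P₀.smul_mem _ hu₀) (P₀.smul_mem _ hw₀)
    have hr : ∀ y, (rI C v hv0 : GL ι F).val *ᵥ y = y - ((Q v)⁻¹ * B v y) • v := rGL_act C hv0
    have hval : ∃ δ : F, ∀ y ∈ P₀, x.val *ᵥ ((rI C v hv0 : GL ι F).val *ᵥ y) =
        δ • ((rI C v hv0 : GL ι F).val *ᵥ (x.val *ᵥ y)) := by
      rcases hP a₀ with ⟨-, s, -, hxu, hxw⟩ | ⟨-, hxu, hxw, hQQ⟩
      · refine ⟨1, fun y hy => ?_⟩
        have hs : ∀ y ∈ P₀, x.val *ᵥ y = s • y := fun y hy => by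
          obtain ⟨a, b, rfl⟩ := Submodule.mem_span_pair.1 hy
          rw [Matrix.mulVec_add, Matrix.mulVec_smul, Matrix.mulVec_smul, hxu, hxw]; module
        rw [one_smul, hs y hy, Matrix.mulVec_smul, hs]
        rw [hr]; exact P₀.sub_mem hy (P₀.smul_mem _ hvP)
      · refine ⟨-1, fun y hy => ?_⟩
        obtain ⟨a, b, rfl⟩ := Submodule.mem_span_pair.1 hy
        have hxv : x.val *ᵥ v = α • w a₀ + (-γ) • u a₀ := by
          rw [hv, Matrix.mulVec_add, Matrix.mulVec_smul, Matrix.mulVec_smul, hxu, hxw]; module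
        have hxy : x.val *ᵥ (a • u a₀ + b • w a₀) = a • w a₀ + (-b) • u a₀ := by
          rw [Matrix.mulVec_add, Matrix.mulVec_smul, Matrix.mulVec_smul, hxu, hxw]; module
        have hcv : c = Q (u a₀) * (α * α + γ * γ) := by
          rw [← hQv, hv, C.smul_add, huw, hQQ]; ring
        have h0 := hQu a₀
        have hs0 : α * α + γ * γ ≠ 0 := fun h => hc (by rw [hcv, h, mul_zero])
        have hs2 : α ^ 2 + γ ^ 2 ≠ 0 := by rwa [pow_two, pow_two]
        rw [hr, Matrix.mulVec_sub, Matrix.mulVec_smul, hxy, hxv, hr, hQv, hcv, hv]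
        simp only [map_add, map_smul, LinearMap.add_apply, LinearMap.smul_apply, smul_eq_mul, huw, hwu, C.self, hQQ]
        match_scalars <;> field_simp <;> ring
    obtain ⟨δ, hδ⟩ := hval
    refine ⟨v, hv0, hQv, δ, fun a ha => ⟨?_, ?_⟩, fun y hy => ⟨?_, hδ y hy⟩⟩
    · rw [hr, hv]; simp [huu _ _ ha.symm, hwu]
    · rw [hr, hv]; simp [hww _ _ ha.symm, huw]
    · rw [hr]; exact P₀.sub_mem hy (P₀.smul_mem _ hvP)
  haveI := fact_of_ns R.ns
  obtain ⟨G, hGQ, hGJ⟩ := roots_conj (ν := ν) C h2 hn hd J (Matrix.toLin' Θ) hJJ hJs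
    (fun v => by simp only [Matrix.toLin'_apply]; exact R.sq v)
    (fun a b => by simp only [Matrix.toLin'_apply]; exact R.sa a b)
  obtain ⟨gG, hgG⟩ : ∃ gG : GL ι F, ∀ v, gG.val *ᵥ v = G v :=
    ⟨(Symp.glEquiv ι F).symm G, fun v => by
      rw [← Symp.glEquiv_apply]
      exact LinearEquiv.congr_fun ((Symp.glEquiv ι F).apply_symm_apply G) v⟩
  have hgGi : gG ∈ Cfsg.isometryGroup F Q := mem_iso.2 fun v => by rw [hgG]; exact hGQ v
  have hchar : ringChar F ≠ 2 := fun hc => h2 (by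
    haveI := ringChar.charP F
    have := CharP.cast_eq_zero F (ringChar F)
    rw [hc] at this
    exact_mod_cast this)
  obtain ⟨η, hη⟩ := FiniteField.exists_nonsquare hchar
  obtain ⟨v₁, hv₁, hQ₁, hG₁⟩ := hrefl 1 one_ne_zero
  obtain ⟨v₂, hv₂, hQ₂, hG₂⟩ := hrefl η fun h => hη (h ▸ IsSquare.zero)
  have e₁ : detSpin Q (rI C v₁ hv₁) = (-1, -1) := Prod.ext (det_rI C hv₁) (by
    show spin Q _ = _
    rw [spin_rI C h2 hv₁, if_pos (hQ₁ ▸ IsSquare.one)])
  have e₂ : detSpin Q (rI C v₂ hv₂) = (-1, 1) := Prod.ext (det_rI C hv₂) (by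
    show spin Q _ = _
    rw [spin_rI C h2 hv₂, if_neg (hQ₂ ▸ hη)])
  obtain ⟨h, hh, hhG⟩ : ∃ h : ↥(Cfsg.isometryGroup F Q), detSpin Q h = detSpin Q ⟨gG, hgGi⟩ ∧ Good (h : GL ι F) := by
    have hdet : (detSpin Q ⟨gG, hgGi⟩).1 = 1 ∨ (detSpin Q ⟨gG, hgGi⟩).1 = -1 := by
      rcases det_sq C hgGi with hd | hd
      · exact Or.inl (Units.ext hd)
      · exact Or.inr (Units.ext (by rw [Units.val_neg, Units.val_one]; exact hd))
    generalize detSpin Q ⟨gG, hgGi⟩ = p at hdet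
    obtain ⟨p1, p2⟩ := p
    rcases hdet with h | h <;> simp only at h <;> subst h <;> rcases Int.units_eq_one_or p2 with rfl | rfl
    · exact ⟨1, map_one _, hgood1⟩
    · exact ⟨rI C v₁ hv₁ * rI C v₂ hv₂, by rw [map_mul, e₁, e₂]; simp, hgmul _ _ hG₁ hG₂⟩
    · exact ⟨_, e₂, hG₂⟩
    · exact ⟨_, e₁, hG₁⟩
  have hmem : (h * (⟨gG, hgGi⟩ : ↥(Cfsg.isometryGroup F Q))⁻¹) ∈ Omega F Q := by
    show _ ∈ commutator _
    rw [(omega_odd C h2 (by omega)).1, MonoidHom.mem_ker, map_mul, map_inv, hh, mul_inv_cancel]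
  refine ⟨_, ⟨_, hmem, rfl⟩, ?_⟩
  obtain ⟨δ, hf, hp⟩ := hhG
  set hv : GL ι F := (h : GL ι F)
  obtain ⟨y, hy⟩ : ∃ y, y = hv⁻¹ * x * hv := ⟨_, rfl⟩
  have hxP : ∀ a, ∃ p q r t : F, x.val *ᵥ u a = p • u a + q • w a ∧ x.val *ᵥ w a = r • u a + t • w a := fun a => by
    rcases hP a with ⟨-, s, -, h1, h3⟩ | ⟨-, h1, h3, -⟩
    · exact ⟨s, 0, 0, s, by rw [h1]; module, by rw [h3]; module⟩
    · exact ⟨0, 1, -1, 0, by rw [h1]; module, by rw [h3]; module⟩
  have hy₀ : ∀ v ∈ P₀, y.val *ᵥ v = δ • (x.val *ᵥ v) := fun v hv' => by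
    rw [hy, mul_act, mul_act, (hp v hv').2, Matrix.mulVec_smul, inv_act]
  have hya : ∀ a, a ≠ a₀ → y.val *ᵥ u a = x.val *ᵥ u a ∧ y.val *ᵥ w a = x.val *ᵥ w a := fun a ha => by
    obtain ⟨h1, h3⟩ := hf a ha
    obtain ⟨p, q, r, t, h4, h5⟩ := hxP a
    have hfix : ∀ p q : F, (hv⁻¹ : GL ι F).val *ᵥ (p • u a + q • w a) = p • u a + q • w a := fun p q => by
      conv_lhs => rw [← h1, ← h3]
      rw [Matrix.mulVec_add, Matrix.mulVec_smul, Matrix.mulVec_smul, inv_act, inv_act]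
    exact ⟨by rw [hy, mul_act, mul_act, h1, h4, hfix], by rw [hy, mul_act, mul_act, h3, h5, hfix]⟩
  have hplane : ∀ a, ∃ c : F, ∀ p q : F, y.val *ᵥ (p • u a + q • w a) = c • (x.val *ᵥ (p • u a + q • w a)) := fun a => by
    by_cases ha : a = a₀
    · subst ha
      exact ⟨δ, fun p q => hy₀ _ (P₀.add_mem (P₀.smul_mem _ hu₀) (P₀.smul_mem _ hw₀))⟩
    · refine ⟨1, fun p q => ?_⟩
      rw [one_smul, Matrix.mulVec_add, Matrix.mulVec_add, Matrix.mulVec_smul, Matrix.mulVec_smul, Matrix.mulVec_smul,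
        Matrix.mulVec_smul, (hya a ha).1, (hya a ha).2]
  have hcomm : ∀ v, y.val *ᵥ J v = ε • J (y.val *ᵥ v) := fun v => by
    refine LinearMap.congr_fun (f := Matrix.toLin' y.val ∘ₗ J) (g := ε • J ∘ₗ Matrix.toLin' y.val) (β.ext ?_) v
    intro s
    simp only [LinearMap.comp_apply, LinearMap.smul_apply, Matrix.toLin'_apply, hβ]
    rcases s with a | a <;> obtain ⟨c, hc⟩ := hplane a <;>
      simp only [Sum.elim_inl, Sum.elim_inr] <;>
      (have e1 := hc 1 0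
       have e2 := hc 0 1
       simp only [one_smul, zero_smul, add_zero, zero_add] at e1 e2
       rcases hP a with ⟨hε', s, -, h1, h3⟩ | ⟨hε', h1, h3, hQQ⟩ <;>
         simp only [hc, e1, e2, h1, h3, hε', hJu, hJw, map_add, map_neg, map_smul, Matrix.mulVec_add,
           Matrix.mulVec_smul, smul_add, smul_neg, smul_smul] <;>
         (try rw [hQQ, div_self (hQu a)]) <;> module)
  have e : (((h * (⟨gG, hgGi⟩ : ↥(Cfsg.isometryGroup F Q))⁻¹ : ↥(Cfsg.isometryGroup F Q)) : GL ι F))⁻¹ * x *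
      ((h * (⟨gG, hgGi⟩ : ↥(Cfsg.isometryGroup F Q))⁻¹ : ↥(Cfsg.isometryGroup F Q)) : GL ι F) = gG * y * gG⁻¹ := by
    rw [Subgroup.coe_mul, Subgroup.coe_inv, hy, show hv = (h : GL ι F) from rfl]; group
  show (((h * (⟨gG, hgGi⟩ : ↥(Cfsg.isometryGroup F Q))⁻¹ : ↥(Cfsg.isometryGroup F Q)) : GL ι F))⁻¹ * x *
      (((h * (⟨gG, hgGi⟩ : ↥(Cfsg.isometryGroup F Q))⁻¹ : ↥(Cfsg.isometryGroup F Q)) : GL ι F)) ∈ _
  rw [e]
  refine R.norm_of_sign hε (mat_ext fun v => ?_)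
  show ((gG * y * gG⁻¹ : GL ι F).val * Θ) *ᵥ v = _
  rw [Matrix.smul_mulVec]
  simp only [← Matrix.mulVec_mulVec]
  have hJG : ∀ b, Θ *ᵥ G b = G (J b) := fun b => by rw [hGJ, Matrix.toLin'_apply]
  have hGi : ∀ b, (gG⁻¹ : GL ι F).val *ᵥ (Θ *ᵥ b) = J ((gG⁻¹ : GL ι F).val *ᵥ b) := fun b => by
    conv_lhs => rw [← act_inv gG b, hgG, hJG, ← hgG, inv_act]
  rw [mul_act, mul_act, mul_act, mul_act, hGi, hcomm, Matrix.mulVec_smul, hgG, hgG, hJG]

end Cfsg.Lib.Linear.SkewField.OrthRoot
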